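import Mathlib
import Cfsg.Prelude.Def_GeometricClasses
import Cfsg.Agent.S3762

/-!
# Irreducible matrix groups of symplectic type of order `16 |Z|` in dimension four

The sign rule for commutators and squares.
-/

set_option autoImplicit false
set_option linter.style.haveILetI false

namespace Cfsg.Lib.Linear.ExtraTwo

variable {ι : Type} [Fintype ι] [DecidableEq ι] {F : Type*} [Field F]

/-- The data used for a four dimensional group of symplectic type. -/
structure Ctx (R : Subgroup (GL ι F)) : Prop where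
  two : (2 : F) ≠ 0
  card_ι : Fintype.card ι = 4
  fin : Finite R
  card : Nat.card R = 16 * Nat.card (Subgroup.center R)
  zcard : Nat.card (Subgroup.center R) = 2 ∨ Nat.card (Subgroup.center R) = 4
  neg_mem : (-1 : GL ι F) ∈ R
  sq : ∀ x ∈ R, x * x = 1 ∨ x * x = -1
  comm : ∀ x ∈ R, ∀ y ∈ R, x * y = y * x ∨ x * y = -(y * x)
  irr : ∀ M : Matrix ι ι F, (∀ x ∈ R, Commute M (x : Matrix ι ι F)) → ∃ c : F, M = c • 1

theorem pow_four_exp {G : Type*} [Group G] (h : Monoid.exponent G = 4) (x : G) : x ^ 4 = 1 :=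
  h ▸ Monoid.pow_exponent_eq_one x

theorem orderOf_le_four {G : Type*} [Group G] (h : Monoid.exponent G = 4) (x : G) : orderOf x ≤ 4 :=
  Nat.le_of_dvd (by norm_num) (orderOf_dvd_of_pow_eq_one (pow_four_exp h x))

/-- Structure of a 2-group of symplectic type and exponent four. -/
theorem structure_four {G : Type*} [Group G] [Finite G] (hG : IsPGroup 2 G)
    (hs : ∀ A : Subgroup G, A.Characteristic → IsMulCommutative A → IsCyclic A) (hexp : Monoid.exponent G = 4)
    (hna : ¬ IsMulCommutative G) :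
    (∀ x : G, x * x ∈ Subgroup.center G) ∧
      ∀ x y : G, x * y * x⁻¹ * y⁻¹ ∈ Subgroup.center G ∧ (x * y * x⁻¹ * y⁻¹) * (x * y * x⁻¹ * y⁻¹) = 1 := by
  haveI : Fact (Nat.Prime 2) := ⟨Nat.prime_two⟩
  obtain ⟨E, C, hEC, hsup, hE, hC⟩ := Cfsg.Agent.S3762.result hG hs
  have hCc : IsCyclic C := by
    rcases hC with hC | ⟨-, h16, hC⟩
    · exact hC
    exfalso
    have ho : ∀ x : C, orderOf x ≤ 4 := fun x => by
      rw [← orderOf_injective C.subtype C.subtype_injective x]; exact orderOf_le_four hexp _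
    rcases hC with ⟨m, ⟨e⟩⟩ | ⟨m, ⟨e⟩⟩ | ⟨m, hm, -, x, -, hx, -, -⟩
    · rw [Nat.card_congr e.toEquiv, DihedralGroup.nat_card] at h16
      have := ho (e.symm (DihedralGroup.r 1))
      rw [MulEquiv.orderOf_eq, DihedralGroup.orderOf_r_one] at this
      omega
    · rw [Nat.card_congr e.toEquiv] at h16
      rcases Nat.eq_zero_or_pos m with rfl | hm
      · simp [Nat.card_congr (QuaternionGroup.quaternionGroupZeroEquivDihedralGroupZero).toEquiv] at h16
      · haveI : NeZero m := ⟨hm.ne'⟩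
        rw [Nat.card_eq_fintype_card, QuaternionGroup.card] at h16
        have := ho (e.symm (QuaternionGroup.a 1))
        rw [MulEquiv.orderOf_eq, QuaternionGroup.orderOf_a_one] at this
        omega
    · have := ho x
      have h8 : 2 ^ 3 ≤ 2 ^ m := Nat.pow_le_pow_right two_pos hm
      omega
  have hdec : ∀ g : G, ∃ e ∈ E, ∃ c ∈ C, g = e * c := fun g => by
    have hg : g ∈ (↑(E ⊔ C) : Set G) := by rw [hsup]; trivial
    rw [Subgroup.coe_mul_of_left_le_normalizer_right E C (fun e he => Subgroup.centralizer_le_normalizer _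
      (Subgroup.mem_centralizer_iff.2 fun r hr => (hEC e he r hr).symm)), Set.mem_mul] at hg
    obtain ⟨e, he, c, hc, rfl⟩ := hg
    exact ⟨e, he, c, hc, rfl⟩
  have hCZ : ∀ c ∈ C, c ∈ Subgroup.center G := fun c hc => Subgroup.mem_center_iff.2 fun g => by
    obtain ⟨e, he, d, hd, rfl⟩ := hdec g
    letI := hCc.commGroup
    have h1 : d * c = c * d := congrArg Subtype.val (mul_comm (⟨d, hd⟩ : C) ⟨c, hc⟩)
    rw [mul_assoc, h1, ← mul_assoc, hEC e he c hc, mul_assoc]
  rcases hE with hE | ⟨⟨-, hfr, hcom⟩, hcard⟩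
  · exact absurd ⟨⟨fun a b => by
      obtain ⟨e, he, d, hd, rfl⟩ := hdec a
      rw [hE, Subgroup.mem_bot] at he
      subst he
      rw [one_mul]
      exact (Subgroup.mem_center_iff.1 (hCZ d hd) b).symm⟩⟩ hna
  have hZE : ∀ z : E, z ∈ Subgroup.center E → (z : G) ∈ Subgroup.center G := fun z hz => Subgroup.mem_center_iff.2 fun g => by
    obtain ⟨e, he, d, hd, rfl⟩ := hdec g
    have h1 : e * z = z * e := congrArg Subtype.val (Subgroup.mem_center_iff.1 hz ⟨e, he⟩)
    rw [mul_assoc, ← hEC z z.2 d hd, ← mul_assoc, h1, mul_assoc]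
  have hz2 : ∀ z : E, z ∈ Subgroup.center E → (z : G) * z = 1 := fun z hz => by
    have h1 : (⟨z, hz⟩ : Subgroup.center E) ^ 2 = 1 := hcard ▸ pow_card_eq_one'
    rw [pow_two] at h1
    exact congrArg (fun w : Subgroup.center E => ((w : E) : G)) h1
  have hEcomm : ∀ a b : E, a * b * a⁻¹ * b⁻¹ ∈ Subgroup.center E := fun a b => by
    rw [← hcom, ← commutatorElement_def, _root_.commutator_def]
    exact Subgroup.commutator_mem_commutator (Subgroup.mem_top _) (Subgroup.mem_top _)
  have hcomm : ∀ x y : G, ∃ z : E, z ∈ Subgroup.center E ∧ x * y * x⁻¹ * y⁻¹ = z := fun x y => by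
    obtain ⟨e, he, c, hc, rfl⟩ := hdec x
    obtain ⟨f, hf, d, hd, rfl⟩ := hdec y
    refine ⟨⟨e, he⟩ * ⟨f, hf⟩ * ⟨e, he⟩⁻¹ * ⟨f, hf⟩⁻¹, hEcomm _ _, ?_⟩
    have hc' := Subgroup.mem_center_iff.1 (hCZ c hc)
    have hd' := Subgroup.mem_center_iff.1 (hCZ d hd)
    show _ = e * f * e⁻¹ * f⁻¹
    calc e * c * (f * d) * (e * c)⁻¹ * (f * d)⁻¹ = e * (c * f) * (d * c⁻¹) * e⁻¹ * d⁻¹ * f⁻¹ := by
          simp only [_root_.mul_inv_rev, mul_assoc]
      _ = e * (f * c) * (c⁻¹ * d) * e⁻¹ * d⁻¹ * f⁻¹ := by rw [hc' f, ← hd' c⁻¹]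
      _ = e * f * (d * e⁻¹) * d⁻¹ * f⁻¹ := by simp only [mul_assoc, mul_inv_cancel_left]
      _ = e * f * e⁻¹ * f⁻¹ := by rw [← hd' e⁻¹]; simp only [mul_assoc, mul_inv_cancel_left]
  refine ⟨fun x => ?_, fun x y => ?_⟩
  · obtain ⟨e, he, c, hc, rfl⟩ := hdec x
    have hee : (⟨e, he⟩ : E) * ⟨e, he⟩ ∈ Subgroup.center E := by
      have h1 : ∀ a b : E, b * a * a = a * a * b := fun a b => by
        obtain ⟨z, hzdef⟩ : ∃ z, z = b * a * b⁻¹ * a⁻¹ := ⟨_, rfl⟩
        have hz : z ∈ Subgroup.center E := hzdef ▸ hEcomm b a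
        have hba : b * a = z * a * b := by rw [hzdef]; simp [mul_assoc]
        have hzz : z * z = 1 := Subtype.ext (hz2 z hz)
        have hza : a * z = z * a := Subgroup.mem_center_iff.1 hz a
        calc b * a * a = z * a * b * a := by rw [hba]
          _ = z * a * (b * a) := mul_assoc _ _ _
          _ = z * a * (z * a * b) := by rw [hba]
          _ = z * (a * z) * a * b := by simp only [mul_assoc]
          _ = a * a * b := by rw [hza, ← mul_assoc z z a, hzz, one_mul]
      exact Subgroup.mem_center_iff.2 fun b => by rw [← mul_assoc]; exact h1 _ b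
    have h2 : e * c * (e * c) = ((⟨e, he⟩ : E) * ⟨e, he⟩ : E) * (c * c) := by
      show _ = e * e * (c * c)
      rw [mul_assoc, ← mul_assoc c e c, ← Subgroup.mem_center_iff.1 (hCZ c hc) e]; simp only [mul_assoc]
    rw [h2]
    exact mul_mem (hZE _ hee) (mul_mem (hCZ c hc) (hCZ c hc))
  · obtain ⟨z, hz, hzxy⟩ := hcomm x y
    rw [hzxy]
    exact ⟨hZE z hz, hz2 z hz⟩

/-- Scalars of square one. -/
theorem units_sq_one {c : GL ι F} {l : F} (hc : (c : Matrix ι ι F) = l • 1) (h : c * c = 1) : c = 1 ∨ c = -1 := by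
  rcases isEmpty_or_nonempty ι with hι | ⟨⟨i⟩⟩
  · exact Or.inl (Subsingleton.elim _ _)
  have h1 := congrArg (fun u : GL ι F => (u : Matrix ι ι F) i i) h
  simp only [Units.val_mul, hc, Units.val_one, smul_mul_smul_comm, one_mul, Matrix.smul_apply, Matrix.one_apply_eq,
    smul_eq_mul, mul_one, mul_self_eq_one_iff] at h1
  rcases h1 with rfl | rfl
  · exact Or.inl (Units.ext (by rw [hc, one_smul, Units.val_one]))
  · exact Or.inr (Units.ext (by rw [hc, neg_one_smul, Units.val_neg, Units.val_one]))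

/-- The data from the hypotheses of the statements. -/
theorem Ctx.mk' [Finite F] {R : Subgroup (GL ι F)} (h2 : (2 : F) ≠ 0) (hι : Fintype.card ι = 4)
    (hs : Cfsg.Geo.IsSymplecticTypeGroup 2 R) (hi : Cfsg.Geo.ActsAbsolutelyIrreducibly (Cfsg.Geo.matrixSet R))
    (hcard : Nat.card R = 16 * Nat.card (Subgroup.center R))
    (hz : Nat.card (Subgroup.center R) = 2 ∨ Nat.card (Subgroup.center R) = 4) : Ctx R := by
  have hirr : ∀ M : Matrix ι ι F, (∀ x ∈ R, Commute M (x : Matrix ι ι F)) → ∃ c : F, M = c • 1 :=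
    fun M h => hi.2 M (by rintro _ ⟨g, hg, rfl⟩; exact (h g hg).eq)
  have hexp : Monoid.exponent R = 4 := by rw [hs.exponent_eq]; rfl
  have hna : ¬ IsMulCommutative R := fun h => by
    have h1 : Subgroup.center R = ⊤ := eq_top_iff.2 fun a _ => Subgroup.mem_center_iff.2 fun b => h.is_comm.comm b a
    rw [h1, Subgroup.card_top] at hcard
    have : 0 < Nat.card R := Nat.card_pos
    omega
  obtain ⟨hsq, hcm⟩ := structure_four hs.pGroup hs.cyclic_of_characteristic hexp hna
  have hscal : ∀ z : R, z ∈ Subgroup.center R → ∃ l : F, ((z : GL ι F) : Matrix ι ι F) = l • 1 := fun z hz' =>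
    hirr _ fun x hx => congrArg (fun w : R => ((w : GL ι F) : Matrix ι ι F)) (Subgroup.mem_center_iff.1 hz' ⟨x, hx⟩).symm
  have hpm : ∀ z : R, z ∈ Subgroup.center R → z * z = 1 → (z : GL ι F) = 1 ∨ (z : GL ι F) = -1 := fun z hz' hzz => by
    obtain ⟨l, hl⟩ := hscal z hz'
    exact units_sq_one hl (congrArg Subtype.val hzz)
  have hneg : (-1 : GL ι F) ∈ R := by
    haveI : Fact (Nat.Prime 2) := ⟨Nat.prime_two⟩
    obtain ⟨z, hz'⟩ := exists_prime_orderOf_dvd_card' (G := Subgroup.center R) 2 (by rcases hz with h | h <;> rw [h] <;> norm_num)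
    have hzz : z ^ 2 = 1 := hz' ▸ pow_orderOf_eq_one z
    rw [pow_two] at hzz
    rcases hpm z.1 z.2 (congrArg Subtype.val hzz) with h | h
    · have : z = 1 := Subtype.ext (Subtype.ext h)
      rw [this, orderOf_one] at hz'
      norm_num at hz'
    · exact h ▸ z.1.2
  refine ⟨h2, hι, inferInstance, hcard, hz, hneg, fun x hx => ?_, fun x hx y hy => ?_, hirr⟩
  · refine hpm (⟨x, hx⟩ * ⟨x, hx⟩) (hsq _) ?_
    have := pow_four_exp hexp (⟨x, hx⟩ : R)
    rw [pow_succ, pow_succ, pow_succ, pow_one] at this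
    rw [← mul_assoc]; exact this
  · obtain ⟨h1, h1'⟩ := hcm ⟨x, hx⟩ ⟨y, hy⟩
    rcases hpm _ h1 h1' with h | h
    · left
      have h' : x * y * x⁻¹ * y⁻¹ = 1 := h
      rwa [mul_inv_eq_one, mul_inv_eq_iff_eq_mul] at h'
    · right
      have h' : x * y * x⁻¹ * y⁻¹ = -1 := h
      rw [mul_inv_eq_iff_eq_mul, mul_inv_eq_iff_eq_mul] at h'
      rw [h', neg_mul, one_mul, neg_mul]

namespace Ctx

variable {R : Subgroup (GL ι F)}

/-- Central elements are scalar. -/
theorem scalar (h : Ctx R) {x : GL ι F} (hc : ∀ y ∈ R, x * y = y * x) : ∃ l : F, (x : Matrix ι ι F) = l • 1 :=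
  h.irr _ fun y hy => congrArg Units.val (hc y hy)

theorem neg_mem' (h : Ctx R) {x : GL ι F} (hx : x ∈ R) : -x ∈ R := by
  rw [← neg_one_mul]; exact mul_mem h.neg_mem hx

theorem one_ne_neg (h : Ctx R) : (1 : GL ι F) ≠ -1 := fun e => by
  have hpos : Nonempty ι := Fintype.card_pos_iff.1 (by rw [h.card_ι]; norm_num)
  obtain ⟨i⟩ := hpos
  have h1 := congrArg (fun u : GL ι F => (u : Matrix ι ι F) i i) e
  simp only [Units.val_one, Units.val_neg, Matrix.neg_apply, Matrix.one_apply_eq] at h1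
  exact h.two (by linear_combination h1)

/-- An element anticommuting with a member of the group has trace zero. -/
theorem trace_anti (h : Ctx R) {x y : GL ι F} (he : x * y = -(y * x)) : (x : Matrix ι ι F).trace = 0 := by
  have h1 : (x : Matrix ι ι F) = -((y : Matrix ι ι F) * x * (y⁻¹ : GL ι F).val) := by
    have h2 : x * y * y⁻¹ = -(y * x) * y⁻¹ := by rw [he]
    rw [mul_inv_cancel_right, neg_mul] at h2
    exact congrArg Units.val h2
  have h3 : ((y : Matrix ι ι F) * x * (y⁻¹ : GL ι F).val).trace = (x : Matrix ι ι F).trace := by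
    rw [Matrix.trace_mul_cycle, Units.inv_mul, one_mul]
  have h4 := congrArg Matrix.trace h1
  rw [Matrix.trace_neg, h3] at h4
  have h5 : (2 : F) * (x : Matrix ι ι F).trace = 0 := by linear_combination h4
  exact (mul_eq_zero.1 h5).resolve_left h.two

/-- A non-central member anticommutes with some member. -/
theorem exists_anti (h : Ctx R) {x : GL ι F} (hx : x ∈ R) (hc : ¬ ∀ y ∈ R, x * y = y * x) :
    ∃ y ∈ R, x * y = -(y * x) := by
  by_contra h0
  push Not at h0
  exact hc fun y hy => (h.comm x hx y hy).resolve_right (h0 y hy)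

/-- Non-central members have trace zero. -/
theorem trace_noncentral (h : Ctx R) {x : GL ι F} (hx : x ∈ R) (hc : ¬ ∀ y ∈ R, x * y = y * x) :
    (x : Matrix ι ι F).trace = 0 := by
  obtain ⟨y, -, he⟩ := h.exists_anti hx hc
  exact h.trace_anti he

end Ctx

end Cfsg.Lib.Linear.ExtraTwo
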