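import Mathlib
import Cfsg.Agent.Lib.Linear.PrimeClasses.Classes

/-!
# Characteristic polynomials of small order elements in dimension four, and subgroups of order five
-/

set_option autoImplicit false
set_option linter.style.haveILetI false

universe u

namespace Cfsg.Lib.Linear.ExtraTwo

open Polynomial Cfsg.Agent.Lib.Linear.PrimeClasses
open scoped Matrix

variable {F : Type u} [Field F] {ι : Type} [Fintype ι] [DecidableEq ι]

theorem prime_five_fact : Fact (Nat.Prime 5) := ⟨Nat.prime_five⟩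

attribute [local instance] prime_five_fact

/-- Traces and ring homomorphisms. -/
theorem trace_map {K : Type u} [Field K] (φ : F →+* K) (A : Matrix ι ι F) : (A.map φ).trace = φ A.trace := by
  simp [Matrix.trace]

/-- The roots of the characteristic polynomial of a square root of a scalar. -/
theorem two_roots {L : Type u} [Field L] [IsAlgClosed L] (hι : Fintype.card ι = 4) (h2 : (2 : L) ≠ 0) {A : Matrix ι ι L}
    {l : L} (hl : l ≠ 0) (hA : A * A = (l ^ 2) • 1) (hns : ∀ c : L, A ≠ c • 1) :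
    ∃ a b : ℕ, a + b = 4 ∧ 1 ≤ a ∧ 1 ≤ b ∧ A.charpoly = (X - C l) ^ a * (X - C (-l)) ^ b ∧
      A.trace = ((a : L) - (b : L)) * l ∧ A.det = l ^ a * (-l) ^ b := by
  classical
  have hne : l ≠ -l := fun e => hl ((mul_eq_zero.1 (show (2 : L) * l = 0 by linear_combination e)).resolve_left h2)
  have hfac : (A - l • 1) * (A + l • 1) = 0 := by
    rw [sub_mul, mul_add, mul_add, hA, smul_mul_assoc, smul_mul_assoc, one_mul, one_mul, mul_smul_comm, mul_one, smul_smul, ← pow_two]
    abel
  have hroot : ∀ μ ∈ A.charpoly.roots, μ = l ∨ μ = -l := by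
    intro μ hμ
    have h1 : (Matrix.scalar ι μ - A).det = 0 := by rw [← Matrix.eval_charpoly]; exact isRoot_of_mem_roots hμ
    obtain ⟨v, hv, hv'⟩ := Matrix.exists_mulVec_eq_zero_iff.2 h1
    rw [Matrix.sub_mulVec, sub_eq_zero] at hv'
    have hAv : A *ᵥ v = μ • v := by
      rw [← hv', Matrix.scalar_apply]
      funext i
      simp [Matrix.mulVec_diagonal]
    have h2' : ((l ^ 2) • (1 : Matrix ι ι L)) *ᵥ v = (μ ^ 2) • v := by
      rw [← hA, ← Matrix.mulVec_mulVec, hAv, Matrix.mulVec_smul, hAv, smul_smul, pow_two]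
    rw [Matrix.smul_mulVec, Matrix.one_mulVec] at h2'
    obtain ⟨i, hi⟩ : ∃ i, v i ≠ 0 := Function.ne_iff.1 hv
    have h3 := congrFun h2' i
    simp only [Pi.smul_apply, smul_eq_mul] at h3
    exact sq_eq_sq_iff_eq_or_eq_neg.1 (mul_right_cancel₀ hi h3).symm
  obtain ⟨a, ha⟩ : ∃ a, a = A.charpoly.roots.count l := ⟨_, rfl⟩
  obtain ⟨b, hb⟩ : ∃ b, b = A.charpoly.roots.count (-l) := ⟨_, rfl⟩
  have hR : A.charpoly.roots = Multiset.replicate a l + Multiset.replicate b (-l) := by
    ext μ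
    rw [Multiset.count_add, Multiset.count_replicate, Multiset.count_replicate]
    by_cases hμ : μ = l
    · rw [hμ, if_pos rfl, if_neg hne.symm, add_zero, ha]
    by_cases hμ' : μ = -l
    · rw [hμ', if_neg hne, if_pos rfl, zero_add, hb]
    rw [if_neg (Ne.symm hμ), if_neg (Ne.symm hμ'), add_zero, Multiset.count_eq_zero]
    exact fun h => (hroot μ h).elim hμ hμ'
  have hs : A.charpoly.Splits := IsAlgClosed.splits _
  have hab : a + b = 4 := by
    have h1 := splits_iff_card_roots.1 hs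
    rwa [hR, Multiset.card_add, Multiset.card_replicate, Multiset.card_replicate, Matrix.charpoly_natDegree_eq_dim, hι] at h1
  haveI : Nonempty ι := Fintype.card_pos_iff.1 (by omega)
  have hzero : ∀ {s t : L}, A.charpoly.roots.count t = 0 → (A - s • 1) * (A - t • 1) = 0 → A = s • 1 := by
    intro s t hc h
    have hd : (Matrix.scalar ι t - A).det ≠ 0 := by
      rw [← Matrix.eval_charpoly]
      intro h0
      exact (Multiset.count_eq_zero.1 hc) ((mem_roots (Matrix.charpoly_monic A).ne_zero).2 h0)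
    have hu : IsUnit (A - t • 1) := by
      rw [Matrix.isUnit_iff_isUnit_det, isUnit_iff_ne_zero]
      rw [show A - t • 1 = -(Matrix.scalar ι t - A) by rw [neg_sub, Matrix.scalar_apply, Matrix.smul_one_eq_diagonal],
        Matrix.det_neg]
      exact mul_ne_zero (pow_ne_zero _ (neg_ne_zero.2 one_ne_zero)) hd
    exact sub_eq_zero.1 (hu.mul_left_eq_zero.1 h)
  refine ⟨a, b, hab, ?_, ?_, ?_, ?_, ?_⟩
  · by_contra h0
    refine hns (-l) (hzero (s := -l) (t := l) (by rw [← ha]; omega) ?_)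
    rw [neg_smul, sub_neg_eq_add]
    have hcomm : Commute (A + l • 1) (A - l • 1) :=
      ((Commute.refl A).sub_right ((Commute.one_right A).smul_right l)).add_left
        (((Commute.one_left A).smul_left l).sub_right (((Commute.one_right (1 : Matrix ι ι L)).smul_right l).smul_left l))
    rw [hcomm.eq, hfac]
  · by_contra h0
    refine hns l (hzero (s := l) (t := -l) (by rw [← hb]; omega) ?_)
    rw [neg_smul, sub_neg_eq_add, hfac]
  · conv_lhs => rw [hs.eq_prod_roots_of_monic (Matrix.charpoly_monic A), hR]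
    rw [Multiset.map_add, Multiset.prod_add, Multiset.map_replicate, Multiset.map_replicate, Multiset.prod_replicate,
      Multiset.prod_replicate]
  · rw [Matrix.trace_eq_sum_roots_charpoly, hR, Multiset.sum_add, Multiset.sum_replicate, Multiset.sum_replicate,
      nsmul_eq_mul, nsmul_eq_mul]
    ring
  · rw [Matrix.det_eq_prod_roots_charpoly, hR, Multiset.prod_add, Multiset.prod_replicate, Multiset.prod_replicate]

/-- Square roots of scalars with equal traces share the characteristic polynomial. -/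
theorem charpoly_two (hι : Fintype.card ι = 4) (h2 : (2 : F) ≠ 0) {A B : Matrix ι ι F} {z : F} (hz : z ≠ 0)
    (hA : A * A = z • 1) (hB : B * B = z • 1) (hAn : ∀ c : F, A ≠ c • 1) (hBn : ∀ c : F, B ≠ c • 1)
    (htr : A.trace = B.trace) : A.charpoly = B.charpoly := by
  classical
  let L := AlgebraicClosure F
  obtain ⟨l, hl⟩ := IsAlgClosed.exists_pow_nat_eq (algebraMap F L z) two_pos
  have hz' : algebraMap F L z ≠ 0 := by rwa [ne_eq, map_eq_zero]
  have hl0 : l ≠ 0 := fun e => hz' (by rw [← hl, e]; simp)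
  have h2L : (2 : L) ≠ 0 := by rw [← map_ofNat (algebraMap F L) 2, ne_eq, map_eq_zero]; exact h2
  haveI : Nonempty ι := Fintype.card_pos_iff.1 (by omega)
  have hns : ∀ (M : Matrix ι ι F), (∀ c : F, M ≠ c • 1) → ∀ c : L, M.map (algebraMap F L) ≠ c • 1 := fun M hM c e => by
    obtain ⟨i⟩ := (inferInstance : Nonempty ι)
    refine hM (M i i) (Matrix.ext fun j k => (algebraMap F L).injective ?_)
    have h1 := congrFun (congrFun e j) k
    have h3 := congrFun (congrFun e i) i
    simp only [Matrix.map_apply, Matrix.smul_apply, Matrix.one_apply_eq, smul_eq_mul, mul_one] at h3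
    simp only [Matrix.map_apply, Matrix.smul_apply, smul_eq_mul] at h1
    rw [Matrix.smul_apply, smul_eq_mul, map_mul, h3, h1, Matrix.one_apply, Matrix.one_apply]
    split_ifs <;> simp
  have hmap : ∀ {M : Matrix ι ι F}, M * M = z • 1 → M.map (algebraMap F L) * M.map (algebraMap F L) = (l ^ 2) • 1 := fun {M} hM => by
    rw [← Matrix.map_mul, hM, hl]
    ext i j
    by_cases h : i = j <;> simp [Matrix.map_apply, h]
  obtain ⟨a, b, hab, ha, hb, hcA, htA, -⟩ := two_roots hι h2L hl0 (hmap hA) (hns A hAn)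
  obtain ⟨a', b', hab', ha', hb', hcB, htB, -⟩ := two_roots hι h2L hl0 (hmap hB) (hns B hBn)
  have htr' : (A.map (algebraMap F L)).trace = (B.map (algebraMap F L)).trace := by
    rw [trace_map, trace_map, htr]
  rw [htA, htB] at htr'
  have h3 := mul_right_cancel₀ hl0 htr'
  have haa : a = a' := by
    have h4L : (4 : L) ≠ 0 := by rw [show (4 : L) = 2 * 2 by norm_num]; exact mul_ne_zero h2L h2L
    have hb3 : b = 4 - a := by omega
    have hb4 : b' = 4 - a' := by omega
    subst hb3 hb4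
    have hle : a ≤ 3 := by omega
    have hle' : a' ≤ 3 := by omega
    interval_cases a <;> interval_cases a' <;> (norm_num at h3 ⊢) <;>
      first
        | exact h2L h3 | exact h2L h3.symm | exact h4L h3 | exact h4L h3.symm
        | exact h2L (by linear_combination h3) | exact h2L (by linear_combination -h3)
        | exact h4L (by linear_combination h3) | exact h4L (by linear_combination -h3)
  have hbb : b = b' := by omega
  apply Polynomial.map_injective (algebraMap F L) (algebraMap F L).injective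
  rw [← Matrix.charpoly_map, ← Matrix.charpoly_map, hcA, hcB, haa, hbb]

/-- The possible traces of square roots of scalars. -/
theorem two_cases (hι : Fintype.card ι = 4) (h2 : (2 : F) ≠ 0) {A : Matrix ι ι F} {z : F} (hz : z ≠ 0)
    (hA : A * A = z • 1) (hAn : ∀ c : F, A ≠ c • 1) (hd : A.det = 1) :
    (A.trace = 0 ∧ z ^ 2 = 1) ∨ (A.trace ^ 2 = 4 * z ∧ z ^ 2 = -1 ∧ A.charpoly.IsRoot (A.trace / 2)) := by
  classical
  let L := AlgebraicClosure F
  let φ := algebraMap F L
  obtain ⟨l, hl⟩ := IsAlgClosed.exists_pow_nat_eq (φ z) two_pos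
  have hz' : φ z ≠ 0 := by rwa [ne_eq, map_eq_zero]
  have hl0 : l ≠ 0 := fun e => hz' (by rw [← hl, e]; simp)
  have h2L : (2 : L) ≠ 0 := by rw [← map_ofNat φ 2, ne_eq, map_eq_zero]; exact h2
  haveI : Nonempty ι := Fintype.card_pos_iff.1 (by omega)
  have hns : ∀ c : L, A.map φ ≠ c • 1 := fun c e => by
    obtain ⟨i⟩ := (inferInstance : Nonempty ι)
    refine hAn (A i i) (Matrix.ext fun j k => φ.injective ?_)
    have h1 := congrFun (congrFun e j) k
    have h3 := congrFun (congrFun e i) i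
    simp only [Matrix.map_apply, Matrix.smul_apply, Matrix.one_apply_eq, smul_eq_mul, mul_one] at h3
    simp only [Matrix.map_apply, Matrix.smul_apply, smul_eq_mul] at h1
    rw [Matrix.smul_apply, smul_eq_mul, map_mul, h3, h1, Matrix.one_apply, Matrix.one_apply]
    split_ifs <;> simp
  have hmap : A.map φ * A.map φ = (l ^ 2) • 1 := by
    rw [← Matrix.map_mul, hA, hl]
    ext i j
    by_cases h : i = j <;> simp [Matrix.map_apply, h]
  obtain ⟨a, b, hab, ha, hb, hc, htr, hdet⟩ := two_roots hι h2L hl0 hmap hns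
  have hdet' : (A.map φ).det = 1 := by rw [← RingHom.mapMatrix_apply, ← RingHom.map_det, hd, map_one]
  have htr' : φ A.trace = (A.map φ).trace := (trace_map φ A).symm
  rw [hdet'] at hdet
  rw [htr] at htr'
  have hb4 : b = 4 - a := by omega
  subst hb4
  have hle : a ≤ 3 := by omega
  interval_cases a
  · right
    norm_num at htr' hdet
    refine ⟨φ.injective ?_, φ.injective ?_, ?_⟩
    · rw [map_pow, htr', map_mul, map_ofNat, ← hl]; ring
    · rw [map_pow, map_neg, map_one, ← hl]; linear_combination hdet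
    · have h1 : φ (A.trace / 2) = -l := by rw [map_div₀, htr', map_ofNat, div_eq_iff h2L]; ring
      rw [← Polynomial.isRoot_map_iff φ.injective, ← Matrix.charpoly_map, hc, h1]
      simp
  · left
    norm_num at htr' hdet
    refine ⟨htr', φ.injective ?_⟩
    rw [map_pow, map_one, ← hl, hdet]; ring
  · right
    norm_num at htr' hdet
    refine ⟨φ.injective ?_, φ.injective ?_, ?_⟩
    · rw [map_pow, htr', map_mul, map_ofNat, ← hl]; ring
    · rw [map_pow, map_neg, map_one, ← hl]; linear_combination hdet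
    · have h1 : φ (A.trace / 2) = l := by rw [map_div₀, htr', map_ofNat, div_eq_iff h2L]; ring
      rw [← Polynomial.isRoot_map_iff φ.injective, ← Matrix.charpoly_map, hc, h1]
      simp

variable {L : Type u} [Field L] [IsAlgClosed L] [Algebra F L] {r : ℕ} [Fact r.Prime] {ζ : L}

/-- Multiplicities for any index type. -/
theorem exists_mult' (hζ : IsPrimitiveRoot ζ r) (A : Matrix ι ι F) (hA : A ^ r = 1) :
    ∃ f : ZMod r → ℕ, A.charpoly.map (algebraMap F L) = Pm ζ f ∧ ∑ x, f x = Fintype.card ι ∧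
      algebraMap F L A.trace = ∑ x, (f x : L) * zp ζ x := by
  classical
  let e := Matrix.reindexAlgEquiv F F (Fintype.equivFin ι)
  obtain ⟨f, hf, hs⟩ := exists_mult (L := L) hζ (e A) (by rw [← map_pow, hA, map_one])
  rw [Matrix.reindexAlgEquiv_apply, Matrix.charpoly_reindex] at hf
  refine ⟨f, hf, hs, ?_⟩
  rw [← trace_map,
    Matrix.trace_eq_sum_roots_charpoly, Matrix.charpoly_map, hf, Pm,
    roots_prod _ _ (Finset.prod_ne_zero_iff.mpr fun j _ => pow_ne_zero _ (X_sub_C_ne_zero _)), Multiset.sum_bind]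
  show ∑ x, ((X - C (zp ζ x)) ^ f x).roots.sum = _
  refine Finset.sum_congr rfl fun x _ => ?_
  rw [roots_pow, roots_X_sub_C, Multiset.nsmul_singleton, Multiset.sum_replicate, nsmul_eq_mul]

/-- All roots one forces the identity. -/
theorem eq_one_of_mult [Fintype F] (hrF : (r : F) ≠ 0) (A : Matrix ι ι F) (hA : A ^ r = 1) {f : ZMod r → ℕ}
    (hf : A.charpoly.map (algebraMap F L) = Pm ζ f) (h0 : ∀ x, x ≠ 0 → f x = 0) : A = 1 := by
  classical
  let e := Matrix.reindexAlgEquiv F F (Fintype.equivFin ι)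
  have hs : f 0 = Fintype.card ι := by
    have h1 := congrArg natDegree hf
    rw [natDegree_map, Matrix.charpoly_natDegree_eq_dim, Pm_natDegree, Finset.sum_eq_single (0 : ZMod r)
      (fun x _ hx => h0 x hx) (by simp)] at h1
    exact h1.symm
  have hPm : f = Pi.single (0 : ZMod r) (Fintype.card ι) := funext fun x => by
    rcases eq_or_ne x 0 with rfl | hx
    · rw [hs, Pi.single_eq_same]
    · rw [h0 x hx, Pi.single_eq_of_ne hx]
  have hc : (e A).charpoly = (1 : Matrix (Fin (Fintype.card ι)) (Fin (Fintype.card ι)) F).charpoly := by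
    apply Polynomial.map_injective (algebraMap F L) (algebraMap F L).injective
    rw [Matrix.reindexAlgEquiv_apply, Matrix.charpoly_reindex, hf, hPm, charpoly_one_map (r := r) (ζ := ζ)]
  obtain ⟨c, hc'⟩ := Cfsg.Lib.CanonicalForm.isConj_of_charpoly_eq r r hrF hrF
    (by rw [← map_pow, hA, map_one]) (one_pow r) hc
  have h1 : e A = 1 := c.isUnit.mul_left_cancel (by rw [hc'.eq, one_mul, mul_one])
  exact e.injective (by rw [h1, map_one])

/-- The generators modulo five. -/
theorem five_const {f : ZMod 5 → ℕ} {g : ZMod 5} (hg : g = 2 ∨ g = 3) (hinv : ∀ x, f (g * x) = f x)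
    (hs : ∑ x, f x = 4) : (∀ x, x ≠ 0 → f x = 0) ∨ (f 0 = 0 ∧ ∀ x, x ≠ 0 → f x = 1) := by
  have h := fun x => hinv x
  have hall : f 2 = f 1 ∧ f 3 = f 1 ∧ f 4 = f 1 := by
    rcases hg with rfl | rfl
    · have a := h 1; have b := h 2; have c := h 4
      rw [show (2 : ZMod 5) * 1 = 2 from rfl] at a
      rw [show (2 : ZMod 5) * 2 = 4 from rfl] at b
      rw [show (2 : ZMod 5) * 4 = 3 from rfl] at c
      omega
    · have a := h 1; have b := h 3; have c := h 4
      rw [show (3 : ZMod 5) * 1 = 3 from rfl] at a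
      rw [show (3 : ZMod 5) * 3 = 4 from rfl] at b
      rw [show (3 : ZMod 5) * 4 = 2 from rfl] at c
      omega
  have hsum : f 0 + f 1 + f 2 + f 3 + f 4 = 4 := by
    rw [← hs]; exact (Fin.sum_univ_five (f : Fin 5 → ℕ)).symm
  have key : ∀ x : ZMod 5, x ≠ 0 → x = 1 ∨ x = 2 ∨ x = 3 ∨ x = 4 := by decide
  rcases Nat.eq_zero_or_pos (f 1) with h1 | h1
  · left
    intro x hx
    rcases key x hx with rfl | rfl | rfl | rfl <;> omega
  · right
    refine ⟨by omega, fun x hx => ?_⟩
    rcases key x hx with rfl | rfl | rfl | rfl <;> omega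

/-- Elements of order five with multiplicities invariant under a generator. -/
theorem five_props [Fintype F] (h5 : (5 : F) ≠ 0) {ζ : L} (hζ : IsPrimitiveRoot ζ 5) (A : Matrix ι ι F) (hι : Fintype.card ι = 4)
    (hA : A ^ 5 = 1) (hA1 : A ≠ 1) {g : ZMod 5} (hg : g = 2 ∨ g = 3)
    (hinv : ∀ f : ZMod 5 → ℕ, A.charpoly.map (algebraMap F L) = Pm ζ f → ∀ x, f (g * x) = f x) :
    A.trace = -1 ∧ ∀ v : ι → F, A *ᵥ v = v → v = 0 := by
  obtain ⟨f, hf, hs, htr⟩ := exists_mult' hζ A hA
  rw [hι] at hs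
  rcases five_const hg (hinv f hf) hs with h0 | ⟨h0, h1⟩
  · exact absurd (eq_one_of_mult (by exact_mod_cast h5) A hA hf h0) hA1
  constructor
  · apply (algebraMap F L).injective
    rw [htr, map_neg, map_one]
    have hgs : ∑ i ∈ Finset.range 5, ζ ^ i = 0 := hζ.geom_sum_eq_zero (by norm_num)
    rw [Finset.sum_range_succ, Finset.sum_range_succ, Finset.sum_range_succ, Finset.sum_range_succ, Finset.sum_range_one] at hgs
    rw [show (∑ x : ZMod 5, (f x : L) * zp ζ x) = (f (0 : ZMod 5) : L) * ζ ^ 0 + (f (1 : ZMod 5) : L) * ζ ^ 1 +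
      (f (2 : ZMod 5) : L) * ζ ^ 2 + (f (3 : ZMod 5) : L) * ζ ^ 3 + (f (4 : ZMod 5) : L) * ζ ^ 4 from
        Fin.sum_univ_five (fun x : Fin 5 => (f x : L) * zp (r := 5) ζ x), h0, h1 1 (show (1 : Fin 5) ≠ 0 by decide), h1 2 (show (2 : Fin 5) ≠ 0 by decide),
      h1 3 (show (3 : Fin 5) ≠ 0 by decide), h1 4 (show (4 : Fin 5) ≠ 0 by decide)]
    push_cast
    linear_combination hgs
  · intro v hv
    by_contra hv0
    have h2 : (Matrix.scalar ι (1 : F) - A).det = 0 := by
      refine Matrix.exists_mulVec_eq_zero_iff.1 ⟨v, hv0, ?_⟩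
      rw [Matrix.sub_mulVec, hv, map_one, Matrix.one_mulVec, sub_self]
    rw [← Matrix.eval_charpoly] at h2
    have h3 : (A.charpoly.map (algebraMap F L)).IsRoot (zp ζ (0 : ZMod 5)) := by
      rw [zp_zero, ← map_one (algebraMap F L)]
      exact (Polynomial.isRoot_map_iff (algebraMap F L).injective).2 h2
    rw [hf, ← rootMultiplicity_pos (Pm_monic ζ f).ne_zero, count_roots_Pm hζ, h0] at h3
    exact lt_irrefl 0 h3

/-- Elements of order three with multiplicities invariant under negation. -/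
theorem three_props [Fintype F] (h3 : (3 : F) ≠ 0) {ζ : L} (hζ : IsPrimitiveRoot ζ 3) (A : Matrix ι ι F) (hι : Fintype.card ι = 4)
    (hA : A ^ 3 = 1) (hA1 : A ≠ 1)
    (hinv : ∀ f : ZMod 3 → ℕ, A.charpoly.map (algebraMap F L) = Pm ζ f → ∀ x, f (-x) = f x) :
    ∃ t : ℕ, (t = 1 ∨ t = 2) ∧ A.trace = 4 - 3 * (t : F) ∧
      A.charpoly.map (algebraMap F L) = Pm ζ (fun x : ZMod 3 => if x = 0 then 4 - 2 * t else t) := by
  obtain ⟨f, hf, hs, htr⟩ := exists_mult' hζ A hA
  rw [hι] at hs
  have h21 : f 2 = f 1 := hinv f hf 1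
  have key : ∀ x : ZMod 3, x = 0 ∨ x = 1 ∨ x = 2 := by decide
  have hsum : f 0 + f 1 + f 2 = 4 := by rw [← hs]; exact (Fin.sum_univ_three (f : Fin 3 → ℕ)).symm
  have hne : f 1 ≠ 0 := fun h0 => hA1 (eq_one_of_mult (by exact_mod_cast h3) A hA hf fun x hx => by
    rcases key x with rfl | rfl | rfl <;> first | exact absurd rfl hx | omega)
  refine ⟨f 1, by omega, ?_, ?_⟩
  · apply (algebraMap F L).injective
    rw [htr, map_sub, map_mul, map_ofNat, map_ofNat, map_natCast]
    rw [show (∑ x : ZMod 3, (f x : L) * zp ζ x) = (f (0 : ZMod 3) : L) * ζ ^ 0 + (f (1 : ZMod 3) : L) * ζ ^ 1 +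
      (f (2 : ZMod 3) : L) * ζ ^ 2 from Fin.sum_univ_three (fun x : Fin 3 => (f x : L) * zp (r := 3) ζ x), h21]
    have hgs : ∑ i ∈ Finset.range 3, ζ ^ i = 0 := hζ.geom_sum_eq_zero (by norm_num)
    rw [Finset.sum_range_succ, Finset.sum_range_succ, Finset.sum_range_one] at hgs
    have h4 := congrArg (Nat.cast : ℕ → L) (show f 0 + 2 * f 1 = 4 by omega)
    push_cast at h4
    linear_combination (f 1 : L) * hgs + h4
  · rw [hf]
    congr 1
    funext x
    rcases key x with rfl | rfl | rfl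
    · rw [if_pos rfl]; omega
    · rw [if_neg (by decide)]
    · rw [if_neg (by decide), h21]

/-- Equal traces give equal characteristic polynomials in order three. -/
theorem three_charpoly [Fintype F] (h3 : (3 : F) ≠ 0) {ζ : L} (hζ : IsPrimitiveRoot ζ 3) {A B : Matrix ι ι F}
    (hι : Fintype.card ι = 4) (hA : A ^ 3 = 1) (hA1 : A ≠ 1) (hB : B ^ 3 = 1) (hB1 : B ≠ 1)
    (hiA : ∀ f : ZMod 3 → ℕ, A.charpoly.map (algebraMap F L) = Pm ζ f → ∀ x, f (-x) = f x)
    (hiB : ∀ f : ZMod 3 → ℕ, B.charpoly.map (algebraMap F L) = Pm ζ f → ∀ x, f (-x) = f x)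
    (htr : A.trace = B.trace) : A.charpoly = B.charpoly := by
  obtain ⟨t, ht, htA, hcA⟩ := three_props h3 hζ A hι hA hA1 hiA
  obtain ⟨t', ht', htB, hcB⟩ := three_props h3 hζ B hι hB hB1 hiB
  have : t = t' := by
    rw [htA, htB, sub_right_inj] at htr
    have h := mul_left_cancel₀ h3 htr
    rcases ht with rfl | rfl <;> rcases ht' with rfl | rfl
    · rfl
    · push_cast at h; exact absurd (show (1 : F) = 0 by linear_combination -h) one_ne_zero
    · push_cast at h; exact absurd (show (1 : F) = 0 by linear_combination h) one_ne_zero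
    · rfl
  apply Polynomial.map_injective (algebraMap F L) (algebraMap F L).injective
  rw [hcA, hcB, this]

omit L ζ in
/-- Conjugacy of subgroups of order five. -/
theorem five_conj' (h20 : (20 : F) ≠ 0) (hι : Fintype.card ι = 4) (G : Subgroup (GL ι F)) [Finite G]
    (H : ∀ x ∈ G, x ^ 5 = 1 → x ≠ 1 → (x : Matrix ι ι F).trace = -1 ∧ ∀ v : ι → F, (x : Matrix ι ι F) *ᵥ v = v → v = 0)
    {x y : GL ι F} (hx : x ∈ G) (hy : y ∈ G) (hx5 : x ^ 5 = 1) (hy5 : y ^ 5 = 1) (hx1 : x ≠ 1) (hy1 : y ≠ 1) :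
    ∃ g ∈ G, ∃ j : ℕ, g⁻¹ * x * g = y ^ j := by
  classical
  have key : ∀ a b : G, a ^ 5 = 1 → b ^ 5 = 1 → a ≠ 1 → a * b = b * a → b ∈ Subgroup.zpowers a := by
    intro a b ha hb ha1 hab
    by_contra hba
    have hne : ∀ i j : Fin 5, (a ^ (i : ℕ) * b ^ (j : ℕ) : G) = 1 → i = 0 ∧ j = 0 := by
      intro i j e
      have hj : j = 0 := by
        by_contra hj0
        refine hba ?_
        have h1 : b ^ (j : ℕ) ∈ Subgroup.zpowers a := by
          rw [eq_inv_of_mul_eq_one_right e]
          exact inv_mem (pow_mem (Subgroup.mem_zpowers a) _)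
        have hcop : Nat.Coprime (orderOf b) (j : ℕ) := by
          have hb5 : orderOf b ∣ 5 := orderOf_dvd_of_pow_eq_one hb
          refine Nat.Coprime.coprime_dvd_left hb5 ((Nat.Prime.coprime_iff_not_dvd Nat.prime_five).2 fun hd => ?_)
          have := Nat.eq_zero_of_dvd_of_lt hd j.2
          exact hj0 (Fin.ext this)
        obtain ⟨k, hk⟩ := exists_pow_eq_self_of_coprime hcop.symm
        exact hk ▸ pow_mem h1 k
      subst hj
      simp only [Fin.val_zero, pow_zero, mul_one] at e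
      refine ⟨?_, rfl⟩
      by_contra hi0
      have h2 := pow_gcd_eq_one.2 ⟨e, ha⟩
      rw [Nat.Coprime.gcd_eq_one ((Nat.Prime.coprime_iff_not_dvd Nat.prime_five).2 fun hd =>
        hi0 (Fin.ext (Nat.eq_zero_of_dvd_of_lt hd i.2))).symm, pow_one] at h2
      exact ha1 h2
    let E : Matrix ι ι F := ∑ i : Fin 5, ∑ j : Fin 5, (((a ^ (i : ℕ) * b ^ (j : ℕ) : G) : GL ι F) : Matrix ι ι F)
    have hshift : ((a : GL ι F) : Matrix ι ι F) * E = E := by
      simp only [E, Finset.mul_sum]
      refine Fintype.sum_equiv (Equiv.addRight (1 : Fin 5)) _ _ fun i => ?_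
      refine Finset.sum_congr rfl fun j _ => ?_
      rw [← Units.val_mul, ← Subgroup.coe_mul, ← mul_assoc, ← pow_succ']
      have h3 : a ^ ((i : ℕ) + 1) = a ^ (((i + 1 : Fin 5)) : ℕ) := by
        rw [Fin.val_add, pow_eq_pow_mod _ ha]; rfl
      rw [h3]; rfl
    have haM : ∀ v, ((a : GL ι F) : Matrix ι ι F) *ᵥ v = v → v = 0 :=
      (H a a.2 (by rw [← SubmonoidClass.coe_pow, ha]; rfl) fun e => ha1 (Subtype.ext e)).2
    have hE : E = 0 := by
      refine Matrix.ext fun k l => ?_
      have h1 := haM (fun k => E k l) (by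
        funext k
        have h2 := congrFun (congrFun hshift k) l
        rw [Matrix.mul_apply] at h2
        exact h2)
      exact congrFun h1 k
    have htr : E.trace = -20 := by
      simp only [E, Matrix.trace_sum]
      have hterm : ∀ i j : Fin 5, (((a ^ (i : ℕ) * b ^ (j : ℕ) : G) : GL ι F) : Matrix ι ι F).trace =
          if i = 0 ∧ j = 0 then (4 : F) else -1 := by
        intro i j
        split_ifs with h
        · obtain ⟨rfl, rfl⟩ := h
          simp [Matrix.trace_one, hι]
        · refine (H _ (SetLike.coe_mem _) ?_ fun e => h (hne i j (Subtype.ext e))).1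
          rw [← SubmonoidClass.coe_pow, (show Commute a b from hab).pow_pow _ _ |>.mul_pow, ← pow_mul, ← pow_mul,
            mul_comm (i : ℕ), mul_comm (j : ℕ), pow_mul, pow_mul, ha, hb, one_pow, one_pow, one_mul]
          rfl
      simp only [hterm, Fin.sum_univ_five]
      simp (config := { decide := true }) only [if_true, if_false]
      norm_num
    rw [hE, Matrix.trace_zero] at htr
    exact h20 (neg_eq_zero.1 htr.symm)
  have hord : ∀ a : G, a ^ 5 = 1 → a ≠ 1 → orderOf a = 5 := fun a ha ha1 => orderOf_eq_prime ha ha1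
  obtain ⟨a, ha⟩ : ∃ a : G, (a : GL ι F) = x := ⟨⟨x, hx⟩, rfl⟩
  obtain ⟨b, hb⟩ : ∃ b : G, (b : GL ι F) = y := ⟨⟨y, hy⟩, rfl⟩
  have ha5 : a ^ 5 = 1 := Subtype.ext (by rw [SubmonoidClass.coe_pow, ha]; exact hx5)
  have hb5 : b ^ 5 = 1 := Subtype.ext (by rw [SubmonoidClass.coe_pow, hb]; exact hy5)
  have ha1 : a ≠ 1 := fun e => hx1 (by rw [← ha, e]; rfl)
  have hb1 : b ≠ 1 := fun e => hy1 (by rw [← hb, e]; rfl)
  have hpg : ∀ c : G, c ^ 5 = 1 → c ≠ 1 → IsPGroup 5 (Subgroup.zpowers c) := fun c hc hc1 =>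
    IsPGroup.of_card (n := 1) (by rw [Nat.card_zpowers, hord c hc hc1, pow_one])
  obtain ⟨P, hP⟩ := (hpg a ha5 ha1).exists_le_sylow
  obtain ⟨Q, hQ⟩ := (hpg b hb5 hb1).exists_le_sylow
  obtain ⟨g, hg⟩ := MulAction.exists_smul_eq G P Q
  have hconj : g * a * g⁻¹ ∈ (Q : Subgroup G) := by
    rw [← hg, Sylow.coe_subgroup_smul]
    exact Subgroup.smul_mem_pointwise_smul a (MulAut.conj g) _ (hP (Subgroup.mem_zpowers a))
  have hbQ : b ∈ (Q : Subgroup G) := hQ (Subgroup.mem_zpowers b)
  haveI : Nontrivial (Q : Subgroup G) := ⟨⟨⟨b, hbQ⟩, 1, fun e => hb1 (congrArg Subtype.val e)⟩⟩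
  haveI := Q.2.center_nontrivial
  obtain ⟨z, hz⟩ := exists_prime_orderOf_dvd_card' (G := Subgroup.center (Q : Subgroup G)) 5
    ((Q.2.to_subgroup _).card_eq_or_dvd.resolve_left Finite.one_lt_card.ne')
  have hz5 : (((z : (Q : Subgroup G)) : G)) ^ 5 = 1 := by
    have h1 : z ^ 5 = 1 := orderOf_dvd_iff_pow_eq_one.1 (dvd_of_eq hz)
    exact congrArg (fun w : Subgroup.center (Q : Subgroup G) => ((w : (Q : Subgroup G)) : G)) h1
  have hz1 : ((z : (Q : Subgroup G)) : G) ≠ 1 := fun e => by
    rw [show z = 1 from Subtype.ext (Subtype.ext e), orderOf_one] at hz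
    norm_num at hz
  have hin : ∀ c ∈ (Q : Subgroup G), c ^ 5 = 1 → c ∈ Subgroup.zpowers ((z : (Q : Subgroup G)) : G) := fun c hc hc5 =>
    key _ c hz5 hc5 hz1 (congrArg Subtype.val (Subgroup.mem_center_iff.1 z.2 ⟨c, hc⟩)).symm
  have h1 := hin _ hconj (by rw [conj_pow, ha5, mul_one, mul_inv_cancel])
  have hbz := hin b hbQ hb5
  have heq : Subgroup.zpowers b = Subgroup.zpowers ((z : (Q : Subgroup G)) : G) := by
    refine Subgroup.eq_of_le_of_card_ge (Subgroup.zpowers_le.2 hbz) ?_
    rw [Nat.card_zpowers, Nat.card_zpowers, hord b hb5 hb1, hord _ hz5 hz1]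
  rw [← heq, ← (isOfFinOrder_of_finite b).mem_powers_iff_mem_zpowers, Submonoid.mem_powers_iff] at h1
  obtain ⟨j, hj⟩ := h1
  refine ⟨((g⁻¹ : G) : GL ι F), SetLike.coe_mem _, j, ?_⟩
  rw [← hb, ← SubmonoidClass.coe_pow, hj, ← ha, Subgroup.coe_inv, Subgroup.coe_mul, Subgroup.coe_mul, Subgroup.coe_inv, inv_inv]

end Cfsg.Lib.Linear.ExtraTwo
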