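import Mathlib
import Cfsg.Agent.Lib.Linear.ExtraTwo.Basic

/-!
# Elements of odd prime order normalising a group of symplectic type

Counting of fixed elements and the trace identity.
-/

set_option autoImplicit false
set_option linter.style.haveILetI false

namespace Cfsg.Lib.Linear.ExtraTwo

variable {ι : Type} [Fintype ι] [DecidableEq ι] {F : Type*} [Field F] {R : Subgroup (GL ι F)}

/-- The members commuting with everything in the group. -/
def zs (R : Subgroup (GL ι F)) : Subgroup (GL ι F) := R ⊓ Subgroup.centralizer (R : Set (GL ι F))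

/-- The members commuting with `y`. -/
def cy (R : Subgroup (GL ι F)) (y : GL ι F) : Subgroup (GL ι F) := R ⊓ Subgroup.centralizer {y}

theorem mem_zs {x : GL ι F} : x ∈ zs R ↔ x ∈ R ∧ ∀ g ∈ R, x * g = g * x := by
  simp only [zs, Subgroup.mem_inf, Subgroup.mem_centralizer_iff, SetLike.mem_coe]
  exact and_congr_right fun _ => forall₂_congr fun g _ => eq_comm

theorem mem_cy {x y : GL ι F} : x ∈ cy R y ↔ x ∈ R ∧ y * x = x * y := by
  simp [cy, Subgroup.mem_centralizer_iff]

theorem card_zs : Nat.card (zs R) = Nat.card (Subgroup.center R) :=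
  Nat.card_congr
    { toFun := fun x => ⟨⟨x.1, (mem_zs.1 x.2).1⟩, Subgroup.mem_center_iff.2 fun g => Subtype.ext ((mem_zs.1 x.2).2 g g.2).symm⟩
      invFun := fun x => ⟨x.1.1, mem_zs.2 ⟨x.1.2, fun g hg => congrArg Subtype.val (Subgroup.mem_center_iff.1 x.2 ⟨g, hg⟩).symm⟩⟩
      left_inv := fun _ => rfl
      right_inv := fun _ => rfl }

namespace Ctx

variable (h : Ctx R)
include h

theorem card' : Nat.card R = 16 * Nat.card (zs R) := by rw [card_zs]; exact h.card

theorem zcard' : Nat.card (zs R) = 2 ∨ Nat.card (zs R) = 4 := by rw [card_zs]; exact h.zcard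

theorem pow_four {x : GL ι F} (hx : x ∈ R) : x ^ 4 = 1 := by
  rw [show 4 = 2 * 2 from rfl, pow_mul, pow_two, pow_two]
  rcases h.sq x hx with e | e <;> rw [e]
  · rw [one_mul]
  · rw [neg_mul_neg, one_mul]

theorem inv_eq {x : GL ι F} (hx : x ∈ R) : x⁻¹ = x ∨ x⁻¹ = -x := by
  rcases h.sq x hx with e | e
  · exact Or.inl (inv_eq_of_mul_eq_one_right e)
  · exact Or.inr (inv_eq_of_mul_eq_one_right (by rw [mul_neg, e, neg_neg]))

/-- The elements commuting with a non-central member form a subgroup of index two. -/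
theorem card_half {c : GL ι F} (hc : c ∈ R) (hcn : ¬ ∀ g ∈ R, c * g = g * c) :
    2 * Nat.card (cy R c) = Nat.card R := by
  haveI := h.fin
  obtain ⟨a, ha, hca⟩ := h.exists_anti hc hcn
  have hidx : ((cy R c).subgroupOf R).index = 2 := by
    rw [Subgroup.index_eq_two_iff]
    refine ⟨⟨a, ha⟩, fun b => ?_⟩
    simp only [Subgroup.mem_subgroupOf, Subgroup.coe_mul, mem_cy, b.2, mul_mem b.2 ha, true_and]
    have key : (c * (b * a) = b * a * c) ↔ c * (b : GL ι F) = -((b : GL ι F) * c) := by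
      constructor
      · intro e
        rw [← mul_left_inj a, mul_assoc c, e, mul_assoc, neg_mul, mul_assoc, hca, mul_neg, neg_neg]
      · intro e
        rw [← mul_assoc, e, neg_mul, mul_assoc, hca, mul_neg, neg_neg, mul_assoc]
    rw [key]
    rcases h.comm c hc b b.2 with e | e
    · refine Or.inr ⟨e, fun e' => ?_⟩
      have h1 := e'.symm.trans e
      rw [← neg_one_mul, mul_eq_right] at h1
      exact h.one_ne_neg h1.symm
    · refine Or.inl ⟨e, fun e' => ?_⟩
      have h1 := e.symm.trans e'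
      rw [← neg_one_mul, mul_eq_right] at h1
      exact h.one_ne_neg h1.symm
  have h1 := ((cy R c).subgroupOf R).index_mul_card
  rwa [hidx, Nat.card_congr (Subgroup.subgroupOfEquivOfLe (show cy R c ≤ R from inf_le_left)).toEquiv] at h1

variable {r : ℕ} [Fact r.Prime] {y : GL ι F}

/-- Members central up to the normalising element are fixed by it. -/
theorem fixed_of_central (hr : r ≠ 2) (hyr : y ^ r = 1) {x : GL ι F} (hx : x ∈ R) (hyx : y * x * y⁻¹ ∈ R)
    (hc : ∀ g ∈ R, x * (y * x * y⁻¹)⁻¹ * g = g * (x * (y * x * y⁻¹)⁻¹)) : y * x = x * y := by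
  obtain ⟨w, hw⟩ : ∃ w, w = x * (y * x * y⁻¹)⁻¹ := ⟨_, rfl⟩
  rw [← hw] at hc
  obtain ⟨s, hs⟩ : ∃ s, s = w⁻¹ := ⟨_, rfl⟩
  have hsR : s ∈ R := hs ▸ inv_mem (hw ▸ mul_mem hx (inv_mem hyx))
  replace hc : ∀ g ∈ R, s * g = g * s := fun g hg => by
    rw [hs]; exact (Commute.inv_left (show Commute w g from hc g hg)).eq
  obtain ⟨l, hl⟩ := h.scalar hc
  have hsy : Commute y s := Units.ext (by
    rw [Units.val_mul, Units.val_mul, hl, mul_smul_comm, mul_one, smul_mul_assoc, one_mul])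
  have hxs : y * x * y⁻¹ = x * s := by
    rw [← hc x hx, hs, hw, _root_.mul_inv_rev, inv_inv, inv_mul_cancel_right]
  have hpow : ∀ k : ℕ, y ^ k * x * (y ^ k)⁻¹ = x * s ^ k := fun k => by
    induction k with
    | zero => simp
    | succ k ih =>
      calc y ^ (k + 1) * x * (y ^ (k + 1))⁻¹ = y * (y ^ k * x * (y ^ k)⁻¹) * y⁻¹ := by
            rw [pow_succ', _root_.mul_inv_rev]; simp only [mul_assoc]
        _ = y * x * y⁻¹ * (y * s ^ k * y⁻¹) := by rw [ih]; simp [mul_assoc]
        _ = x * (s * s ^ k) := by rw [hxs, (hsy.pow_right k).eq, mul_inv_cancel_right, mul_assoc]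
        _ = x * s ^ (k + 1) := by rw [pow_succ']
  have hsr : s ^ r = 1 := by
    have := hpow r
    rwa [hyr, one_mul, inv_one, mul_one, left_eq_mul] at this
  have hs1 : s = 1 := by
    have h1 := pow_gcd_eq_one.2 ⟨hsr, h.pow_four hsR⟩
    rwa [show Nat.gcd r 4 = 1 from Nat.Coprime.pow_right 2 ((Nat.coprime_primes Fact.out Nat.prime_two).2 hr), pow_one] at h1
  rw [hs1, mul_one, mul_inv_eq_iff_eq_mul] at hxs
  exact hxs

/-- The fixed elements of an invariant subgroup. -/
theorem card_modEq (hyr : y ^ r = 1) (D : Subgroup (GL ι F)) (hD : D ≤ R) (hDy : ∀ x ∈ D, y * x * y⁻¹ ∈ D) :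
    Nat.card (D ⊓ cy R y : Subgroup (GL ι F)) ≡ Nat.card D [MOD r] := by
  classical
  haveI := h.fin
  haveI : Finite D := Finite.of_injective (Subgroup.inclusion hD) (Subgroup.inclusion_injective hD)
  letI : Fintype D := Fintype.ofFinite D
  let f : D → D := fun x => ⟨y * x * y⁻¹, hDy x x.2⟩
  have hfi : Function.Injective f := fun a b e => by
    have := congrArg Subtype.val e
    simp only [f, mul_left_inj, mul_right_inj] at this
    exact Subtype.ext this
  let σ : Equiv.Perm D := Equiv.ofBijective f (Finite.injective_iff_bijective.1 hfi)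
  have hσ : ∀ (k : ℕ) (x : D), ((σ ^ k) x : GL ι F) = y ^ k * x * (y ^ k)⁻¹ := fun k => by
    induction k with
    | zero => intro x; simp
    | succ k ih =>
      intro x
      rw [pow_succ', Equiv.Perm.mul_apply]
      show y * ((σ ^ k) x : GL ι F) * y⁻¹ = _
      rw [ih, pow_succ', _root_.mul_inv_rev]; simp only [mul_assoc]
  have hσr : σ ^ r ^ 1 = 1 := Equiv.ext fun x => Subtype.ext (by rw [pow_one, hσ, hyr]; simp)
  have h1 := Equiv.Perm.card_compl_support_modEq hσr
  rw [← Nat.card_eq_fintype_card] at h1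
  have e : Nat.card (D ⊓ cy R y : Subgroup (GL ι F)) = σ.supportᶜ.card := by
    rw [← Fintype.card_coe, ← Nat.card_eq_fintype_card]
    refine Nat.card_congr
      { toFun := fun x => ⟨⟨x.1, x.2.1⟩, ?_⟩
        invFun := fun x => ⟨x.1.1, x.1.2, ?_⟩
        left_inv := fun _ => rfl
        right_inv := fun _ => rfl }
    · rw [Finset.mem_compl, Equiv.Perm.notMem_support]
      exact Subtype.ext (show y * x.1 * y⁻¹ = x.1 by rw [(mem_cy.1 x.2.2).2, mul_inv_cancel_right])
    · have hx := x.2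
      rw [Finset.mem_compl, Equiv.Perm.notMem_support] at hx
      refine mem_cy.2 ⟨hD x.1.2, ?_⟩
      have h2 : y * (x.1 : GL ι F) * y⁻¹ = x.1 := congrArg Subtype.val hx
      rwa [mul_inv_eq_iff_eq_mul] at h2
  rwa [e]

theorem zs_le (hy : ∀ x ∈ R, y * x * y⁻¹ ∈ R) : zs R ≤ cy R y := fun x hx => by
  obtain ⟨hxR, hxc⟩ := mem_zs.1 hx
  refine mem_cy.2 ⟨hxR, ?_⟩
  obtain ⟨l, hl⟩ := h.scalar hxc
  exact Units.ext (by rw [Units.val_mul, Units.val_mul, hl, mul_smul_comm, mul_one, smul_mul_assoc, one_mul])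

/-- The number of fixed cosets. -/
theorem exists_k (hr : r ≠ 2) (hyr : y ^ r = 1) (hy : ∀ x ∈ R, y * x * y⁻¹ ∈ R) :
    ∃ k : ℕ, Nat.card (cy R y) = Nat.card (zs R) * k ∧ k ∣ 16 ∧ k ≡ 16 [MOD r] := by
  haveI := h.fin
  obtain ⟨k, hk⟩ := Subgroup.card_dvd_of_le (h.zs_le hy)
  have hdvd := Subgroup.card_dvd_of_le (show cy R y ≤ R from inf_le_left)
  rw [h.card', hk, mul_comm 16] at hdvd
  have hz : 0 < Nat.card (zs R) := by rcases h.zcard' with e | e <;> omega
  refine ⟨k, hk, Nat.dvd_of_mul_dvd_mul_left hz hdvd, ?_⟩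
  have h1 := h.card_modEq hyr R le_rfl hy
  rw [inf_eq_right.2 (show cy R y ≤ R from inf_le_left), h.card', hk, mul_comm 16] at h1
  refine Nat.ModEq.cancel_left_of_coprime ?_ h1
  rcases h.zcard' with e | e <;> rw [e]
  · exact (Nat.coprime_primes Fact.out Nat.prime_two).2 hr
  · exact Nat.Coprime.pow_right 2 ((Nat.coprime_primes Fact.out Nat.prime_two).2 hr)

/-- An element fixing all cosets is scalar. -/
theorem scalar_of_all (hk : Nat.card (cy R y) = Nat.card (zs R) * 16) : ∃ l : F, (y : Matrix ι ι F) = l • 1 := by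
  haveI := h.fin
  have e : cy R y = R := Subgroup.eq_of_le_of_card_ge inf_le_left (by rw [hk, h.card', mul_comm])
  exact h.scalar fun g hg => (mem_cy.1 (show g ∈ cy R y by rw [e]; exact hg)).2

/-- No non-scalar elements of prime order at least seven normalise the group. -/
theorem seven_le (hr : 7 ≤ r) (hyr : y ^ r = 1) (hy : ∀ x ∈ R, y * x * y⁻¹ ∈ R) :
    ∃ l : F, (y : Matrix ι ι F) = l • 1 := by
  haveI := h.fin
  obtain ⟨k, hk, hk16, hkm⟩ := h.exists_k (by omega) hyr hy
  have hk' : k = 16 ∨ (r = 7 ∧ k = 2) := by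
    have hle := Nat.le_of_dvd (by norm_num) hk16
    have hd := (Nat.modEq_iff_dvd' hle).1 hkm
    rcases Nat.lt_or_ge k 16 with hlt | hge
    · refine Or.inr ?_
      have hr16 : r ≤ 16 - k := Nat.le_of_dvd (by omega) hd
      have hp := (Fact.out : r.Prime)
      interval_cases k <;> first | omega | (norm_num at hk16; done) | (interval_cases r <;> first | omega | (norm_num at hd; done) | (norm_num at hp; done))
    · exact Or.inl (le_antisymm hle hge)
  rcases hk' with rfl | ⟨rfl, rfl⟩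
  · exact h.scalar_of_all hk
  exfalso
  have hlt : zs R < cy R y := lt_of_le_of_ne (h.zs_le hy) fun e => by
    rw [← e] at hk
    rcases h.zcard' with e' | e' <;> omega
  obtain ⟨c, hc, hcn⟩ := SetLike.exists_of_lt hlt
  obtain ⟨hcR, hcy⟩ := mem_cy.1 hc
  have hhalf := h.card_half hcR fun h' => hcn (mem_zs.2 ⟨hcR, h'⟩)
  have hD : ∀ x ∈ cy R c, y * x * y⁻¹ ∈ cy R c := fun x hx => by
    obtain ⟨hxR, hxc⟩ := mem_cy.1 hx
    refine mem_cy.2 ⟨hy x hxR, ?_⟩
    have hcy' : c * y⁻¹ = y⁻¹ * c := by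
      rw [eq_inv_mul_iff_mul_eq, ← mul_assoc, hcy, mul_inv_cancel_right]
    calc c * (y * x * y⁻¹) = y * (c * x) * y⁻¹ := by rw [← mul_assoc, ← mul_assoc, ← hcy]; simp only [mul_assoc]
      _ = y * x * (c * y⁻¹) := by rw [hxc]; simp only [mul_assoc]
      _ = _ := by rw [hcy']; simp only [mul_assoc]
  have hm := h.card_modEq hyr (cy R c) inf_le_left hD
  have h1 : cy R c ⊓ cy R y ≤ cy R y := inf_le_right
  haveI : Finite (cy R y) := Finite.of_injective (Subgroup.inclusion (show cy R y ≤ R from inf_le_left)) (Subgroup.inclusion_injective _)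
  haveI : Finite (cy R c ⊓ cy R y : Subgroup (GL ι F)) := Finite.of_injective (Subgroup.inclusion h1) (Subgroup.inclusion_injective _)
  have hzA : zs R ≤ cy R c ⊓ cy R y := le_inf (fun w hw => mem_cy.2 ⟨(mem_zs.1 hw).1, ((mem_zs.1 hw).2 c hcR).symm⟩) (h.zs_le hy)
  have hA : cy R c ⊓ cy R y = cy R y := by
    refine Subgroup.eq_of_le_of_card_ge h1 ?_
    obtain ⟨d, hd⟩ := Subgroup.card_dvd_of_le hzA
    have hd1 : d ≠ 1 := fun e => by
      rw [e, mul_one] at hd
      refine hcn ?_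
      rw [Subgroup.eq_of_le_of_card_ge hzA hd.le]
      exact ⟨mem_cy.2 ⟨hcR, rfl⟩, hc⟩
    have hd0 : d ≠ 0 := fun e => by
      rw [e, mul_zero] at hd
      exact Nat.card_pos.ne' hd
    rw [hd, hk]
    exact Nat.mul_le_mul_left _ (by omega)
  rw [hA, hk] at hm
  rw [h.card'] at hhalf
  rcases h.zcard' with e | e <;> rw [e] at hhalf hm
  · rw [show Nat.card (cy R c) = 16 by omega] at hm; exact absurd hm (by decide)
  · rw [show Nat.card (cy R c) = 32 by omega] at hm; exact absurd hm (by decide)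

/-- The trace identity. -/
theorem trace_mul_trace (hr : r ≠ 2) (hyr : y ^ r = 1) (hy : ∀ x ∈ R, y * x * y⁻¹ ∈ R) {k : ℕ}
    (hk : Nat.card (cy R y) = Nat.card (zs R) * k) :
    (y : Matrix ι ι F).trace * ((y⁻¹ : GL ι F) : Matrix ι ι F).trace = k := by
  classical
  haveI := h.fin
  letI : Fintype R := Fintype.ofFinite R
  let X : Matrix ι ι F := ∑ x : R, ((x.1 * y * x.1⁻¹ : GL ι F) : Matrix ι ι F)
  obtain ⟨c, hc⟩ := h.irr X fun a ha => by
    have e : (a : Matrix ι ι F) * X * (a⁻¹ : GL ι F).val = X := by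
      simp only [X, Finset.mul_sum, Finset.sum_mul]
      refine Fintype.sum_equiv (Equiv.mulLeft ⟨a, ha⟩) _ _ fun x => ?_
      rw [← Units.val_mul, ← Units.val_mul]
      congr 1
      show _ = a * x.1 * y * (a * x.1)⁻¹
      rw [_root_.mul_inv_rev]; simp only [mul_assoc]
    show X * (a : Matrix ι ι F) = (a : Matrix ι ι F) * X
    conv_lhs => rw [← e]
    rw [mul_assoc _ _ (a : Matrix ι ι F), Units.inv_mul, mul_one]
  have hX : (Fintype.card R : F) * (y : Matrix ι ι F).trace = 4 * c := by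
    have h1 := congrArg Matrix.trace hc
    simp only [X, Matrix.trace_sum, Matrix.trace_smul, Matrix.trace_one, h.card_ι, smul_eq_mul] at h1
    rw [Finset.sum_congr rfl (fun x _ => show ((x.1 * y * x.1⁻¹ : GL ι F) : Matrix ι ι F).trace = (y : Matrix ι ι F).trace by
      rw [Units.val_mul, Units.val_mul, Matrix.trace_mul_cycle, Units.inv_mul, one_mul]), Finset.sum_const, Finset.card_univ, nsmul_eq_mul] at h1
    rw [h1]; push_cast; ring
  have hterm : ∀ x : R, ((x.1 * y * x.1⁻¹ : GL ι F).val * (y⁻¹ : GL ι F).val).trace = if x.1 ∈ cy R y then 4 else 0 := fun x => by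
    rw [← Units.val_mul]
    have hm : y * x.1 * y⁻¹ ∈ R := hy x x.2
    split_ifs with hx
    · rw [show x.1 * y * x.1⁻¹ * y⁻¹ = 1 by rw [← (mem_cy.1 hx).2, mul_inv_cancel_right, mul_inv_cancel], Units.val_one,
        Matrix.trace_one, h.card_ι]; norm_num
    · have hw : x.1 * y * x.1⁻¹ * y⁻¹ = x.1 * (y * x.1 * y⁻¹)⁻¹ := by simp [mul_assoc]
      rw [hw]
      refine h.trace_noncentral (mul_mem x.2 (inv_mem hm)) fun hcen => hx (mem_cy.2 ⟨x.2, ?_⟩)
      exact h.fixed_of_central hr hyr x.2 hm hcen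
  have hsum : c * ((y⁻¹ : GL ι F) : Matrix ι ι F).trace = 4 * (Nat.card (cy R y) : F) := by
    have h1 : (X * ((y⁻¹ : GL ι F) : Matrix ι ι F)).trace = c * ((y⁻¹ : GL ι F) : Matrix ι ι F).trace := by
      rw [hc, smul_mul_assoc, one_mul, Matrix.trace_smul, smul_eq_mul]
    rw [← h1]
    simp only [X, Finset.sum_mul, Matrix.trace_sum, hterm]
    rw [Finset.sum_ite, Finset.sum_const_zero, add_zero, Finset.sum_const, nsmul_eq_mul, mul_comm,
      ← Fintype.card_subtype, ← Nat.card_eq_fintype_card]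
    congr 2
    exact Nat.card_congr
      { toFun := fun x => ⟨x.1.1, x.2⟩
        invFun := fun x => ⟨⟨x.1, (mem_cy.1 x.2).1⟩, x.2⟩
        left_inv := fun _ => rfl
        right_inv := fun _ => rfl }
  rw [← Nat.card_eq_fintype_card, h.card'] at hX
  rw [hk] at hsum
  simp only [Nat.cast_mul, Nat.cast_ofNat] at hX hsum
  have hz : ((Nat.card (zs R) : ℕ) : F) ≠ 0 := by
    rcases h.zcard' with e | e <;> rw [e]
    · exact_mod_cast h.two
    · rw [show ((4 : ℕ) : F) = 2 * 2 by norm_num]; exact mul_ne_zero h.two h.two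
  have h16 : (16 : F) ≠ 0 := by
    rw [show (16 : F) = 2 ^ 4 by norm_num]; exact pow_ne_zero _ h.two
  refine mul_left_cancel₀ (mul_ne_zero h16 hz) ?_
  linear_combination ((y⁻¹ : GL ι F) : Matrix ι ι F).trace * hX + 4 * hsum

/-- A transvection-like element: involutions commute with their images. -/
theorem inv_commute (hy : ∀ x ∈ R, y * x * y⁻¹ ∈ R) (φ : (ι → F) →ₗ[F] F)
    (hφ : ∀ v, φ v = 0 → (y : Matrix ι ι F).mulVec v = v) {m : GL ι F} (hm : m ∈ R) (hm2 : m * m = 1) :
    m * (y * m * y⁻¹) = y * m * y⁻¹ * m := by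
  rcases h.comm m hm _ (hy m hm) with e | e
  · exact e
  exfalso
  have hm'2 : y * m * y⁻¹ * (y * m * y⁻¹) = 1 := by
    calc y * m * y⁻¹ * (y * m * y⁻¹) = y * (m * m) * y⁻¹ := by simp [mul_assoc]
      _ = 1 := by rw [hm2]; simp
  obtain ⟨w, hw⟩ : ∃ w, w = m * (y * m * y⁻¹) := ⟨_, rfl⟩
  have hww : w * w = -1 := by
    have e' : y * m * y⁻¹ * m = -(m * (y * m * y⁻¹)) := by rw [e, neg_neg]
    calc w * w = m * (y * m * y⁻¹ * m) * (y * m * y⁻¹) := by rw [hw]; simp only [mul_assoc]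
      _ = -(m * m * (y * m * y⁻¹ * (y * m * y⁻¹))) := by rw [e']; simp only [mul_neg, neg_mul, mul_assoc]
      _ = -1 := by rw [hm2, hm'2, one_mul]
  let f : (ι → F) →ₗ[F] F × F := φ.prod (φ.comp (Matrix.mulVecLin (m : Matrix ι ι F)))
  obtain ⟨v, hv, hv0⟩ : ∃ v ∈ LinearMap.ker f, v ≠ 0 := by
    refine (Submodule.ne_bot_iff _).1 ?_
    exact LinearMap.ker_ne_bot_of_finrank_lt (by simp [h.card_ι])
  replace hv : φ v = 0 ∧ φ ((m : Matrix ι ι F).mulVec v) = 0 := Prod.mk_eq_zero.1 hv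
  have hfix : (y⁻¹ : GL ι F).val.mulVec v = v := by
    conv_lhs => rw [← hφ v hv.1]
    rw [Matrix.mulVec_mulVec, Units.inv_mul, Matrix.one_mulVec]
  have hwv : (w : Matrix ι ι F).mulVec v = v := by
    rw [hw, Units.val_mul, Units.val_mul, Units.val_mul, ← Matrix.mulVec_mulVec, ← Matrix.mulVec_mulVec,
      ← Matrix.mulVec_mulVec, hfix, hφ _ hv.2, Matrix.mulVec_mulVec, ← Units.val_mul, hm2, Units.val_one, Matrix.one_mulVec]
  have h1 : ((w * w : GL ι F) : Matrix ι ι F).mulVec v = v := by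
    rw [Units.val_mul, ← Matrix.mulVec_mulVec, hwv, hwv]
  rw [hww, Units.val_neg, Units.val_one, Matrix.neg_mulVec, Matrix.one_mulVec] at h1
  refine hv0 (funext fun i => ?_)
  have h2 := congrFun h1 i
  rw [Pi.neg_apply] at h2
  have h3 : (2 : F) * v i = 0 := by linear_combination -h2
  exact (mul_eq_zero.1 h3).resolve_left h.two

end Ctx

end Cfsg.Lib.Linear.ExtraTwo
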