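import Mathlib
import Cfsg.Agent.Lib.Linear.ExtraTwo.Count

/-!
# Five pairwise anticommuting involutions generating a group of symplectic type
-/

set_option autoImplicit false
set_option linter.style.haveILetI false

namespace Cfsg.Lib.Linear.ExtraTwo

variable {ι : Type} [Fintype ι] [DecidableEq ι] {F : Type*} [Field F] {R : Subgroup (GL ι F)}

/-- Five pairwise anticommuting involutions generating the group modulo scalars. -/
structure Frame (R : Subgroup (GL ι F)) (e : Fin 5 → GL ι F) : Prop where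
  mem : ∀ k, e k ∈ R
  sq : ∀ k, e k * e k = 1
  anti : ∀ k l, k ≠ l → e k * e l = -(e l * e k)
  gen : ∀ S : Subgroup (GL ι F), zs R ≤ S → (∀ k, e k ∈ S) → R ≤ S
  rel : e 0 * e 1 * e 2 * e 3 = -e 4

/-- Commutation rule with a sign. -/
def Rel (g x ε : GL ι F) : Prop := g * x = ε * (x * g)

theorem rel_mul {g x y ε δ : GL ι F} (hδ : ∀ u, Commute δ u) (hx : Rel g x ε) (hy : Rel g y δ) :
    Rel g (x * y) (ε * δ) := by
  unfold Rel at *
  calc g * (x * y) = ε * (x * (g * y)) := by rw [← mul_assoc, hx]; simp only [mul_assoc]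
    _ = ε * (x * δ * (y * g)) := by rw [hy]; simp only [mul_assoc]
    _ = ε * δ * (x * y * g) := by rw [← (hδ x).eq]; simp only [mul_assoc]

theorem rel_comm {g x : GL ι F} (h : g * x = x * g) : Rel g x 1 := by rw [Rel, h, one_mul]

theorem rel_anti {g x : GL ι F} (h : g * x = -(x * g)) : Rel g x (-1) := by rw [Rel, h, neg_mul, one_mul]

/-- The sign. -/
def sgn (b : Bool) : GL ι F := if b then -1 else 1

theorem sgn_comm (b : Bool) (u : GL ι F) : Commute (sgn b) u := by
  cases b <;> simp [sgn, Commute, SemiconjBy]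

theorem rel_bool {g x : GL ι F} {b : Bool} (h : g * x = -(x * g)) : Rel g (if b then x else 1) (sgn b) := by
  cases b
  · exact rel_comm (by simp)
  · exact rel_anti h

theorem rel_bool' {g x : GL ι F} {b : Bool} (h : g * x = x * g) : Rel g (if b then x else 1) 1 := by
  cases b
  · exact rel_comm (by simp)
  · exact rel_comm h

namespace Ctx

variable (h : Ctx R)
include h

/-- Existence of a frame. -/
theorem exists_frame (H1 : ∃ a ∈ R, a * a = 1 ∧ ¬ ∀ g ∈ R, a * g = g * a)
    (H2 : ∀ a b c, a ∈ R → b ∈ R → c ∈ R → a * a = 1 → b * b = 1 → a * b = -(b * a) → a * c = c * a → b * c = c * b →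
      (¬ ∀ g ∈ R, c * g = g * c) → ∃ s ∈ zs R, s * c * (s * c) = -1) :
    ∃ e, Frame R e := by
  classical
  haveI := h.fin
  obtain ⟨a, ha, haa, han⟩ := H1
  obtain ⟨b, hb, hbb, hab⟩ : ∃ b ∈ R, b * b = 1 ∧ a * b = -(b * a) := by
    obtain ⟨y, hy, hay⟩ := h.exists_anti ha han
    rcases h.sq y hy with e | e
    · exact ⟨y, hy, e, hay⟩
    · refine ⟨a * y, mul_mem ha hy, ?_, ?_⟩
      · have hya : y * a = -(a * y) := by rw [hay, neg_neg]
        calc a * y * (a * y) = a * (y * a) * y := by simp only [mul_assoc]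
          _ = -(a * a * (y * y)) := by rw [hya]; simp only [mul_neg, neg_mul, mul_assoc]
          _ = 1 := by rw [haa, e, one_mul, neg_neg]
      · have hya : y * a = -(a * y) := by rw [hay, neg_neg]
        rw [mul_assoc a y a, hya, mul_neg, neg_neg]
  have hba : b * a = -(a * b) := by rw [hab, neg_neg]
  have hb_n : ¬ ∀ g ∈ R, b * g = g * b := fun hc => by
    have h1 := hc a ha
    rw [hab] at h1
    have h2 : (1 : GL ι F) * (b * a) = -1 * (b * a) := by rw [one_mul, neg_mul, one_mul]; exact h1
    exact h.one_ne_neg (mul_right_cancel h2)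
  -- the joint centraliser is larger than the scalars
  obtain ⟨c, hc, hac, hbc, hcn⟩ : ∃ c ∈ R, a * c = c * a ∧ b * c = c * b ∧ ¬ ∀ g ∈ R, c * g = g * c := by
    by_contra h0
    push Not at h0
    have hle : cy R a ⊓ cy R b ≤ zs R := fun x hx => mem_zs.2 ⟨(mem_cy.1 hx.1).1,
      h0 x (mem_cy.1 hx.1).1 (mem_cy.1 hx.1).2 (mem_cy.1 hx.2).2⟩
    haveI : Finite (zs R) := Finite.of_injective (Subgroup.inclusion (show zs R ≤ R from inf_le_left)) (Subgroup.inclusion_injective _)
    have h1 := Subgroup.card_le_of_le hle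
    have h2 := Subgroup.relIndex_inf_le (H := cy R a) (K := cy R b) (L := R)
    have hA : ∀ c ∈ R, (¬ ∀ g ∈ R, c * g = g * c) → (cy R c).relIndex R = 2 := fun c hc hcn => by
      have h3 := h.card_half hc hcn
      have h4 := (cy R c).relIndex_mul_relIndex R
      have h5 : Nat.card R = (cy R c).relIndex R * Nat.card (cy R c) := by
        rw [Subgroup.relIndex, ← Nat.card_congr (Subgroup.subgroupOfEquivOfLe (show cy R c ≤ R from inf_le_left)).toEquiv,
          Subgroup.index_mul_card]
      rw [← h3] at h5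
      have hpos : 0 < Nat.card (cy R c) := by
        haveI : Finite (cy R c) := Finite.of_injective (Subgroup.inclusion (show cy R c ≤ R from inf_le_left)) (Subgroup.inclusion_injective _)
        exact Nat.card_pos
      exact (Nat.eq_of_mul_eq_mul_right hpos h5).symm
    rw [hA a ha han, hA b hb hb_n] at h2
    have h5 : Nat.card R = (cy R a ⊓ cy R b).relIndex R * Nat.card (cy R a ⊓ cy R b : Subgroup (GL ι F)) := by
      rw [Subgroup.relIndex, ← Nat.card_congr (Subgroup.subgroupOfEquivOfLe
        (show cy R a ⊓ cy R b ≤ R from inf_le_left.trans inf_le_left)).toEquiv, Subgroup.index_mul_card]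
    have h6 : Nat.card R ≤ 4 * Nat.card (zs R) := h5 ▸ Nat.mul_le_mul h2 h1
    rw [h.card'] at h6
    rcases h.zcard' with e | e <;> omega
  obtain ⟨s, hs, hi2⟩ := H2 a b c ha hb hc haa hbb hab hac hbc hcn
  obtain ⟨hsR, hsc⟩ := mem_zs.1 hs
  obtain ⟨i, hi, hii, hai, hbi, hin⟩ : ∃ i ∈ R, i * i = -1 ∧ a * i = i * a ∧ b * i = i * b ∧ ¬ ∀ g ∈ R, i * g = g * i := by
    refine ⟨s * c, mul_mem hsR hc, hi2, ?_, ?_, fun hh => hcn fun g hg => ?_⟩
    · rw [← mul_assoc, ← hsc a ha, mul_assoc, hac, mul_assoc]
    · rw [← mul_assoc, ← hsc b hb, mul_assoc, hbc, mul_assoc]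
    · have := hh g hg
      rw [mul_assoc, ← mul_assoc g s c, ← hsc g hg, mul_assoc, mul_right_inj] at this
      exact this
  obtain ⟨y, hy, hiy⟩ := h.exists_anti hi hin
  obtain ⟨y', hy', hiy', hby'⟩ : ∃ y' ∈ R, i * y' = -(y' * i) ∧ b * y' = y' * b := by
    rcases h.comm b hb y hy with e | e
    · exact ⟨y, hy, hiy, e⟩
    · refine ⟨a * y, mul_mem ha hy, ?_, ?_⟩
      · rw [← mul_assoc, ← hai, mul_assoc, hiy]; simp only [mul_neg, mul_assoc]
      · rw [← mul_assoc, hba, neg_mul, mul_assoc, e, mul_neg, neg_neg, mul_assoc]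
  obtain ⟨y'', hy'', hiy'', hay'', hby''⟩ : ∃ y'' ∈ R, i * y'' = -(y'' * i) ∧ a * y'' = y'' * a ∧ b * y'' = y'' * b := by
    rcases h.comm a ha y' hy' with e | e
    · exact ⟨y', hy', hiy', e, hby'⟩
    · refine ⟨b * y', mul_mem hb hy', ?_, ?_, ?_⟩
      · rw [← mul_assoc, ← hbi, mul_assoc, hiy']; simp only [mul_neg, mul_assoc]
      · rw [← mul_assoc, hab, neg_mul, mul_assoc, e, mul_neg, neg_neg, mul_assoc]
      · rw [mul_assoc b y' b, ← hby']
  have hyn : ¬ ∀ g ∈ R, y'' * g = g * y'' := fun hh => by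
    have h1 := hh i hi
    rw [hiy''] at h1
    have h2 : (1 : GL ι F) * (y'' * i) = -1 * (y'' * i) := by rw [one_mul, neg_mul, one_mul]; exact h1
    exact h.one_ne_neg (mul_right_cancel h2)
  obtain ⟨t, ht, hj2⟩ := H2 a b y'' ha hb hy'' haa hbb hab hay'' hby'' hyn
  obtain ⟨htR, htc⟩ := mem_zs.1 ht
  obtain ⟨j, hj, hjj, haj, hbj, hij⟩ : ∃ j ∈ R, j * j = -1 ∧ a * j = j * a ∧ b * j = j * b ∧ i * j = -(j * i) := by
    refine ⟨t * y'', mul_mem htR hy'', hj2, ?_, ?_, ?_⟩
    · rw [← mul_assoc, ← htc a ha, mul_assoc, hay'', mul_assoc]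
    · rw [← mul_assoc, ← htc b hb, mul_assoc, hby'', mul_assoc]
    · rw [← mul_assoc, ← htc i hi, mul_assoc, hiy'', mul_neg, mul_assoc]
  have hji : j * i = -(i * j) := by rw [hij, neg_neg]
  -- generation
  let φ : zs R × Bool × Bool × Bool × Bool → R := fun w =>
    ⟨w.1.1 * ((if w.2.1 then a else 1) * (if w.2.2.1 then b else 1) * (if w.2.2.2.1 then i else 1) * (if w.2.2.2.2 then j else 1)),
      mul_mem w.1.2.1 (mul_mem (mul_mem (mul_mem (by split_ifs <;> simp [ha]) (by split_ifs <;> simp [hb]))
        (by split_ifs <;> simp [hi])) (by split_ifs <;> simp [hj]))⟩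
  have hs1 : ∀ u : GL ι F, Commute (1 : GL ι F) u := fun u => Commute.one_left u
  have key : ∀ w, Rel a (φ w).1 (sgn w.2.2.1) ∧ Rel b (φ w).1 (sgn w.2.1) ∧ Rel i (φ w).1 (sgn w.2.2.2.2) ∧
      Rel j (φ w).1 (sgn w.2.2.2.1) := fun w => by
    have hz : ∀ g ∈ R, Rel g w.1.1 1 := fun g hg => rel_comm ((mem_zs.1 w.1.2).2 g hg).symm
    refine ⟨?_, ?_, ?_, ?_⟩
    · have hA := rel_mul hs1 (rel_mul hs1 (rel_mul (sgn_comm w.2.2.1) (rel_bool' (b := w.2.1) rfl)
        (rel_bool (b := w.2.2.1) hab)) (rel_bool' (b := w.2.2.2.1) hai)) (rel_bool' (b := w.2.2.2.2) haj)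
      simp only [one_mul, mul_one] at hA
      have := rel_mul (sgn_comm _) (hz a ha) hA
      rw [one_mul] at this
      exact this
    · have hA := rel_mul hs1 (rel_mul hs1 (rel_mul hs1 (rel_bool (b := w.2.1) hba)
        (rel_bool' (b := w.2.2.1) rfl)) (rel_bool' (b := w.2.2.2.1) hbi)) (rel_bool' (b := w.2.2.2.2) hbj)
      simp only [one_mul, mul_one] at hA
      have := rel_mul (sgn_comm _) (hz b hb) hA
      rw [one_mul] at this
      exact this
    · have hA := rel_mul (sgn_comm w.2.2.2.2) (rel_mul hs1 (rel_mul hs1 (rel_bool' (b := w.2.1) hai.symm)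
        (rel_bool' (b := w.2.2.1) hbi.symm)) (rel_bool' (b := w.2.2.2.1) rfl)) (rel_bool (b := w.2.2.2.2) hij)
      simp only [one_mul, mul_one] at hA
      have := rel_mul (sgn_comm _) (hz i hi) hA
      rw [one_mul] at this
      exact this
    · have hA := rel_mul hs1 (rel_mul (sgn_comm w.2.2.2.1) (rel_mul hs1 (rel_bool' (b := w.2.1) haj.symm)
        (rel_bool' (b := w.2.2.1) hbj.symm)) (rel_bool (b := w.2.2.2.1) hji)) (rel_bool' (b := w.2.2.2.2) rfl)
      simp only [one_mul, mul_one] at hA
      have := rel_mul (sgn_comm _) (hz j hj) hA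
      rw [one_mul] at this
      exact this
  have hinj : Function.Injective φ := fun w w' e => by
    have hsg : ∀ {u v : Bool}, sgn (ι := ι) (F := F) u = sgn v → u = v := fun {u v} e' => by
      cases u <;> cases v <;> simp only [sgn, Bool.false_eq_true, if_false, if_true] at e' ⊢
      · exact absurd e' h.one_ne_neg
      · exact absurd e'.symm h.one_ne_neg
    obtain ⟨k1, k2, k3, k4⟩ := key w
    obtain ⟨l1, l2, l3, l4⟩ := key w'
    rw [e] at k1 k2 k3 k4
    have hb' := hsg (mul_right_cancel (k1.symm.trans l1))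
    have ha' := hsg (mul_right_cancel (k2.symm.trans l2))
    have hj' := hsg (mul_right_cancel (k3.symm.trans l3))
    have hi' := hsg (mul_right_cancel (k4.symm.trans l4))
    obtain ⟨z, w1, w2, w3, w4⟩ := w
    obtain ⟨z', v1, v2, v3, v4⟩ := w'
    simp only at ha' hb' hi' hj'
    subst ha' hb' hi' hj'
    have e' := congrArg Subtype.val e
    exact Prod.ext (Subtype.ext (mul_right_cancel e')) rfl
  haveI : Finite (zs R) := Finite.of_injective (Subgroup.inclusion (show zs R ≤ R from inf_le_left)) (Subgroup.inclusion_injective _)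
  have hbij : Function.Bijective φ := hinj.bijective_of_nat_card_le (by
    rw [h.card', Nat.card_prod, Nat.card_prod, Nat.card_prod, Nat.card_prod]
    simp only [Nat.card_eq_fintype_card, Fintype.card_bool]
    omega)
  have habab : a * b * (a * b) = -1 := by
    calc a * b * (a * b) = a * (b * a) * b := by simp only [mul_assoc]
      _ = -(a * a * (b * b)) := by rw [hba]; simp only [mul_neg, neg_mul, mul_assoc]
      _ = -1 := by rw [haa, hbb, one_mul]
  have hsq' : ∀ x, a * x = x * a → b * x = x * b → x * x = -1 → a * b * x * (a * b * x) = 1 := fun x h1 h2 h3 => by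
    have hx : x * (a * b) = a * b * x := by rw [← mul_assoc, ← h1, mul_assoc, ← h2, mul_assoc]
    calc a * b * x * (a * b * x) = a * b * (x * (a * b)) * x := by simp only [mul_assoc]
      _ = a * b * (a * b) * (x * x) := by rw [hx]; simp only [mul_assoc]
      _ = 1 := by rw [habab, h3, neg_mul_neg, one_mul]
  have hpr : ∀ x y, a * x = x * a → b * x = x * b → a * b * x * (a * b * y) = -(x * y) := fun x y h1 h2 => by
    have hx : x * (a * b) = a * b * x := by rw [← mul_assoc, ← h1, mul_assoc, ← h2, mul_assoc]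
    calc a * b * x * (a * b * y) = a * b * (x * (a * b)) * y := by simp only [mul_assoc]
      _ = a * b * (a * b) * (x * y) := by rw [hx]; simp only [mul_assoc]
      _ = -(x * y) := by rw [habab, neg_mul, one_mul]
  have hA : ∀ x, a * x = x * a → b * x = x * b → a * (a * b * x) = -(a * b * x * a) ∧ b * (a * b * x) = -(a * b * x * b) := fun x h1 h2 => by
    constructor
    · calc a * (a * b * x) = a * a * b * x := by simp only [mul_assoc]
        _ = -(a * (b * a) * x) := by rw [hba]; simp only [mul_neg, neg_mul, neg_neg, mul_assoc]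
        _ = -(a * b * x * a) := by rw [mul_assoc (a * b) x a, ← h1]; simp only [mul_assoc]
    · calc b * (a * b * x) = b * a * b * x := by simp only [mul_assoc]
        _ = -(a * b * (b * x)) := by rw [hba]; simp only [neg_mul, mul_assoc]
        _ = -(a * b * x * b) := by rw [h2]; simp only [mul_assoc]
  have haij : a * (i * j) = i * j * a := by rw [← mul_assoc, hai, mul_assoc, haj, mul_assoc]
  have hbij' : b * (i * j) = i * j * b := by rw [← mul_assoc, hbi, mul_assoc, hbj, mul_assoc]
  have hijij : i * j * (i * j) = -1 := by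
    calc i * j * (i * j) = i * (j * i) * j := by simp only [mul_assoc]
      _ = -(i * i * (j * j)) := by rw [hji]; simp only [mul_neg, neg_mul, mul_assoc]
      _ = -1 := by rw [hii, hjj, neg_mul_neg, one_mul]
  let e : Fin 5 → GL ι F := ![a, b, a * b * i, a * b * j, a * b * (i * j)]
  have hsw : ∀ {x y : GL ι F}, x * y = -(y * x) → y * x = -(x * y) := fun h' => by rw [h', neg_neg]
  have h23 : a * b * i * (a * b * j) = -(a * b * j * (a * b * i)) := by
    rw [hpr i j hai hbi, hpr j i haj hbj, hji, neg_neg]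
  have h24 : a * b * i * (a * b * (i * j)) = -(a * b * (i * j) * (a * b * i)) := by
    rw [hpr i _ hai hbi, hpr _ i haij hbij']
    simp only [mul_assoc, hji, mul_neg, neg_neg]
  have h34 : a * b * j * (a * b * (i * j)) = -(a * b * (i * j) * (a * b * j)) := by
    rw [hpr j _ haj hbj, hpr _ j haij hbij', ← mul_assoc j i j, hji]
    simp only [neg_mul, neg_neg, mul_assoc]
  refine ⟨e, fun k => ?_, fun k => ?_, fun k l hkl => ?_, fun S hS he x hx => ?_, ?_⟩
  · fin_cases k
    exacts [ha, hb, mul_mem (mul_mem ha hb) hi, mul_mem (mul_mem ha hb) hj, mul_mem (mul_mem ha hb) (mul_mem hi hj)]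
  · fin_cases k
    exacts [haa, hbb, hsq' i hai hbi hii, hsq' j haj hbj hjj, hsq' _ haij hbij' hijij]
  · fin_cases k <;> fin_cases l <;> first
      | exact absurd rfl hkl
      | exact hab | exact hba
      | exact (hA i hai hbi).1 | exact (hA i hai hbi).2 | exact (hA j haj hbj).1 | exact (hA j haj hbj).2
      | exact (hA _ haij hbij').1 | exact (hA _ haij hbij').2
      | exact hsw (hA i hai hbi).1 | exact hsw (hA i hai hbi).2 | exact hsw (hA j haj hbj).1 | exact hsw (hA j haj hbj).2
      | exact hsw (hA _ haij hbij').1 | exact hsw (hA _ haij hbij').2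
      | exact h23 | exact h24 | exact h34 | exact hsw h23 | exact hsw h24 | exact hsw h34
  · obtain ⟨w, hw⟩ := hbij.2 ⟨x, hx⟩
    have hw' : (φ w).1 = x := congrArg Subtype.val hw
    rw [← hw']
    have habS : a * b ∈ S := mul_mem (he 0) (he 1)
    have hiS : i ∈ S := by
      have := mul_mem (inv_mem habS) (he 2)
      rwa [show e 2 = a * b * i from rfl, inv_mul_cancel_left] at this
    have hjS : j ∈ S := by
      have := mul_mem (inv_mem habS) (he 3)
      rwa [show e 3 = a * b * j from rfl, inv_mul_cancel_left] at this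
    refine mul_mem (hS w.1.2) (mul_mem (mul_mem (mul_mem ?_ ?_) ?_) ?_)
    · split_ifs; exacts [he 0, one_mem _]
    · split_ifs; exacts [he 1, one_mem _]
    · split_ifs; exacts [hiS, one_mem _]
    · split_ifs; exacts [hjS, one_mem _]
  · show a * b * (a * b * i) * (a * b * j) = -(a * b * (i * j))
    rw [mul_assoc (a * b), hpr i j hai hbi, mul_neg]

/-- A group with centre of order four has a central square root of `-1`. -/
theorem exists_root (h4 : Nat.card (zs R) = 4) : ∃ s ∈ zs R, s * s = -1 := by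
  classical
  by_contra h0
  push Not at h0
  have hall : ∀ s : zs R, (s : GL ι F) = 1 ∨ (s : GL ι F) = -1 := fun s => by
    obtain ⟨hsR, hsc⟩ := mem_zs.1 s.2
    obtain ⟨l, hl⟩ := h.scalar hsc
    exact units_sq_one hl ((h.sq _ hsR).resolve_right (h0 _ s.2))
  let g : zs R → Bool := fun s => decide ((s : GL ι F) = 1)
  have hg : Function.Injective g := fun u v e => Subtype.ext (by
    simp only [g, decide_eq_decide] at e
    rcases hall u with hu | hu <;> rcases hall v with hv | hv
    · rw [hu, hv]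
    · rw [hu, e.1 hu]
    · rw [hv, e.2 hv]
    · rw [hu, hv])
  have := Nat.card_le_card_of_injective g hg
  rw [h4, Nat.card_eq_fintype_card, Fintype.card_bool] at this
  omega

/-- A frame when the centre has order four. -/
theorem exists_frame_four (h4 : Nat.card (zs R) = 4) : ∃ e, Frame R e := by
  classical
  haveI := h.fin
  obtain ⟨s, hs, hss⟩ := h.exists_root h4
  obtain ⟨hsR, hsc⟩ := mem_zs.1 hs
  have hsm : ∀ c ∈ R, s * c * (s * c) = -(c * c) := fun c hc => by
    calc s * c * (s * c) = s * (c * s) * c := by simp only [mul_assoc]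
      _ = s * s * (c * c) := by rw [← hsc c hc]; simp only [mul_assoc]
      _ = -(c * c) := by rw [hss, neg_mul, one_mul]
  refine h.exists_frame ?_ fun a b c _ _ hc _ _ _ _ _ _ => ?_
  · have hlt : zs R < R := lt_of_le_of_ne inf_le_left fun e => by
      have := h.card'
      rw [e] at this
      have := Nat.card_pos (α := R)
      omega
    obtain ⟨x, hx, hxn⟩ := SetLike.exists_of_lt hlt
    have hxn' : ¬ ∀ g ∈ R, x * g = g * x := fun hh => hxn (mem_zs.2 ⟨hx, hh⟩)
    rcases h.sq x hx with e | e
    · exact ⟨x, hx, e, hxn'⟩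
    · refine ⟨s * x, mul_mem hsR hx, by rw [hsm x hx, e, neg_neg], fun hh => hxn' fun g hg => ?_⟩
      have := hh g hg
      rw [mul_assoc, ← mul_assoc g s x, ← hsc g hg, mul_assoc, mul_right_inj] at this
      exact this
  · rcases h.sq c hc with e | e
    · exact ⟨s, hs, by rw [hsm c hc, e]⟩
    · exact ⟨1, one_mem _, by rw [one_mul, e]⟩

/-- Commuting involutions in minus type. -/
theorem minus_eq (hm : Cfsg.Geo.IsOfMinusType 2 R) {x y : GL ι F} (hx : x ∈ R) (hy : y ∈ R) (hxn : ¬ ∀ g ∈ R, x * g = g * x)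
    (hyn : ¬ ∀ g ∈ R, y * g = g * y) (hx2 : x * x = 1) (hy2 : y * y = 1) (hxy : x * y = y * x) : y = x ∨ y = -x := by
  classical
  by_contra h0
  push Not at h0
  haveI := h.fin
  let gens : Set R := {⟨-1, h.neg_mem⟩, ⟨x, hx⟩, ⟨y, hy⟩}
  have hcomm : ∀ u ∈ gens, ∀ v ∈ gens, u * v = v * u := by
    rintro u (rfl | rfl | rfl) v (rfl | rfl | rfl) <;> apply Subtype.ext <;> simp [hxy]
  haveI hA : IsMulCommutative (Subgroup.closure gens) := Subgroup.isMulCommutative_closure hcomm
  have hsq : ∀ u ∈ Subgroup.closure gens, u * u = 1 := by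
    intro u hu
    induction hu using Subgroup.closure_induction with
    | mem u hu => rcases hu with rfl | rfl | rfl <;> apply Subtype.ext <;> simp [hx2, hy2]
    | one => rw [one_mul]
    | mul u v hu' hv' iu iv =>
      have e : v * u = u * v := congrArg Subtype.val (hA.is_comm.comm (⟨v, hv'⟩ : Subgroup.closure gens) ⟨u, hu'⟩)
      rw [mul_assoc, ← mul_assoc v u v, e, mul_assoc u v v, iv, mul_one, iu]
    | inv u _ iu => rw [← _root_.mul_inv_rev, iu, inv_one]
  have hlt := hm (Subgroup.closure gens) hA hsq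
  let ψ : Bool × Bool × Bool → Subgroup.closure gens := fun w =>
    ⟨(if w.1 then ⟨-1, h.neg_mem⟩ else 1) * (if w.2.1 then ⟨x, hx⟩ else 1) * (if w.2.2 then ⟨y, hy⟩ else 1),
      mul_mem (mul_mem (by split_ifs; exacts [Subgroup.subset_closure (Or.inl rfl), one_mem _])
        (by split_ifs; exacts [Subgroup.subset_closure (Or.inr (Or.inl rfl)), one_mem _]))
        (by split_ifs; exacts [Subgroup.subset_closure (Or.inr (Or.inr rfl)), one_mem _])⟩
  have hx1 : x ≠ 1 := fun e => hxn (e ▸ fun g _ => by simp)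
  have hx1' : x ≠ -1 := fun e => hxn (e ▸ fun g _ => by simp)
  have hy1 : y ≠ 1 := fun e => hyn (e ▸ fun g _ => by simp)
  have hy1' : y ≠ -1 := fun e => hyn (e ▸ fun g _ => by simp)
  have hneg : (-1 : GL ι F) ≠ 1 := h.one_ne_neg.symm
  let sg : Bool → GL ι F := fun b => if b then -1 else 1
  let X : Bool → GL ι F := fun b => if b then x else 1
  have hy0 : ∀ w1 w2 v1 v2, sg w1 * X w2 * y ≠ sg v1 * X v2 := fun w1 w2 v1 v2 e => by
    have e2 : y = X w2 * sg w1 * (sg v1 * X v2) := by
      rw [← e]
      cases w1 <;> cases w2 <;> simp [sg, X, ← mul_assoc, hx2]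
    cases w1 <;> cases w2 <;> cases v1 <;> cases v2 <;> simp [sg, X, hx2] at e2 <;>
      first | exact hy1 e2 | exact hy1' e2 | exact h0.1 e2 | exact h0.2 e2
  have hinj : Function.Injective ψ := fun w w' e => by
    have e' : sg w.1 * X w.2.1 * (if w.2.2 then y else 1) = sg w'.1 * X w'.2.1 * (if w'.2.2 then y else 1) := by
      have := congrArg (fun u : Subgroup.closure gens => ((u : R) : GL ι F)) e
      simp only [ψ, Subgroup.coe_mul, apply_ite (Subtype.val : R → GL ι F), Subgroup.coe_one] at this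
      exact this
    obtain ⟨w1, w2, w3⟩ := w
    obtain ⟨v1, v2, v3⟩ := w'
    simp only at e'
    have hrest : sg w1 * X w2 = sg v1 * X v2 → w1 = v1 ∧ w2 = v2 := fun e2 => by
      cases w1 <;> cases w2 <;> cases v1 <;> cases v2 <;> simp [sg, X] at e2 ⊢ <;>
        first
          | exact hneg e2 | exact hneg e2.symm | exact hx1 e2 | exact hx1 e2.symm | exact hx1' e2 | exact hx1' e2.symm
          | exact hx1' (neg_eq_iff_eq_neg.1 e2) | exact hx1' (neg_eq_iff_eq_neg.1 e2.symm)
          | exact hneg (neg_eq_iff_eq_neg.1 e2) | exact hneg (neg_eq_iff_eq_neg.1 e2.symm)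
          | exact hx1 (neg_injective e2) | exact hx1 (neg_injective e2.symm)
          | exact hneg (mul_right_cancel (b := x) (by rw [neg_mul, one_mul]; exact e2))
          | exact hneg (mul_right_cancel (b := x) (by rw [neg_mul, one_mul]; exact e2.symm))
    cases w3 <;> cases v3 <;> simp only [Bool.false_eq_true, if_false, if_true, mul_one] at e'
    · obtain ⟨rfl, rfl⟩ := hrest e'; rfl
    · exact absurd e'.symm (hy0 _ _ _ _)
    · exact absurd e' (hy0 _ _ _ _)
    · obtain ⟨rfl, rfl⟩ := hrest (mul_right_cancel e'); rfl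
  have := Nat.card_le_card_of_injective ψ hinj
  rw [Nat.card_eq_fintype_card] at this
  simp only [Fintype.card_prod, Fintype.card_bool] at this
  omega

/-- A frame in minus type. -/
theorem exists_frame_minus (hm : Cfsg.Geo.IsOfMinusType 2 R) (h2 : Nat.card (zs R) = 2) : ∃ e, Frame R e := by
  classical
  haveI := h.fin
  refine h.exists_frame ?_ fun a b c ha hb hc haa hbb hab hac hbc hcn => ?_
  · by_contra h0
    push Not at h0
    have hlt : zs R < R := lt_of_le_of_ne inf_le_left fun e => by
      have := h.card'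
      rw [e] at this
      have := Nat.card_pos (α := R)
      omega
    obtain ⟨y, hy, hyz⟩ := SetLike.exists_of_lt hlt
    have hyn : ¬ ∀ g ∈ R, y * g = g * y := fun hh => hyz (mem_zs.2 ⟨hy, hh⟩)
    have hy2 : y * y = -1 := (h.sq y hy).resolve_left fun e => hyn fun g hg => (h0 y hy e g hg)
    have hone : ∀ w ∈ cy R y, w * w = -1 → w = y ∨ w = -y := fun w hw hw2 => by
      obtain ⟨hwR, hwy⟩ := mem_cy.1 hw
      have h1 : y * w * (y * w) = 1 := by
        calc y * w * (y * w) = y * (w * y) * w := by simp only [mul_assoc]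
          _ = y * y * (w * w) := by rw [← hwy]; simp only [mul_assoc]
          _ = 1 := by rw [hy2, hw2, neg_mul_neg, one_mul]
      obtain ⟨l, hl⟩ := h.scalar (h0 _ (mul_mem hy hwR) h1)
      rcases units_sq_one hl h1 with e | e
      · right
        rw [← mul_right_inj y, e, mul_neg, hy2, neg_neg]
      · left
        rw [← mul_right_inj y, e, hy2]
    let g : Bool × Bool → GL ι F := fun w => (if w.1 then -1 else 1) * (if w.2 then y else 1)
    have hsub : ∀ w ∈ cy R y, ∃ u, g u = w := fun w hw => by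
      obtain ⟨hwR, hwy⟩ := mem_cy.1 hw
      rcases h.sq w hwR with e | e
      · obtain ⟨l, hl⟩ := h.scalar (h0 w hwR e)
        rcases units_sq_one hl e with e' | e'
        · exact ⟨(false, false), by simp [g, e']⟩
        · exact ⟨(true, false), by simp [g, e']⟩
      · rcases hone w hw e with e' | e'
        · exact ⟨(false, true), by simp [g, e']⟩
        · exact ⟨(true, true), by simp [g, e']⟩
    choose u hu using hsub
    have hinj : Function.Injective fun w : cy R y => u w.1 w.2 := fun w v e => Subtype.ext (by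
      rw [← hu w.1 w.2, ← hu v.1 v.2]; exact congrArg g e)
    have h1 := Nat.card_le_card_of_injective _ hinj
    have h3 := h.card_half hy hyn
    rw [h.card', h2] at h3
    rw [Nat.card_prod, Nat.card_eq_fintype_card (α := Bool), Fintype.card_bool] at h1
    omega
  · refine ⟨1, one_mem _, ?_⟩
    rw [one_mul]
    refine (h.sq c hc).resolve_left fun e => ?_
    have han : ¬ ∀ g ∈ R, a * g = g * a := fun hh => by
      have h1 := hh b hb
      rw [hab] at h1
      have h3 : -1 * (b * a) = (1 : GL ι F) * (b * a) := by rw [one_mul, neg_mul, one_mul]; exact h1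
      exact h.one_ne_neg (mul_right_cancel h3).symm
    rcases h.minus_eq hm ha hc han hcn haa e hac with e' | e' <;> subst e'
    · rw [hbc] at hab
      have h3 : (1 : GL ι F) * (c * b) = -1 * (c * b) := by rw [one_mul, neg_mul, one_mul]; exact hab
      exact h.one_ne_neg (mul_right_cancel h3)
    · rw [mul_neg, neg_mul, neg_inj] at hbc
      have h4 : b * a = -(a * b) := by rw [hab, neg_neg]
      rw [h4] at hbc
      have h3 : (1 : GL ι F) * (a * b) = -1 * (a * b) := by rw [one_mul, neg_mul, one_mul]; exact hbc.symm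
      exact h.one_ne_neg (mul_right_cancel h3)

end Ctx

namespace Frame

variable {e : Fin 5 → GL ι F}

theorem swap (E : Frame R e) {k l : Fin 5} (hkl : k ≠ l) : e l * e k = -(e k * e l) := E.anti l k hkl.symm

/-- Matrices commuting with the frame are scalar. -/
theorem scalar (h : Ctx R) (E : Frame R e) (M : Matrix ι ι F) (hM : ∀ k, Commute M (e k : Matrix ι ι F)) :
    ∃ c : F, M = c • 1 := by
  let S : Subgroup (GL ι F) :=
    { carrier := {g | Commute M (g : Matrix ι ι F)}
      one_mem' := Commute.one_right M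
      mul_mem' := fun ha hb => by
        show Commute M _
        rw [Units.val_mul]
        exact Commute.mul_right ha hb
      inv_mem' := fun {g} hg => Commute.units_inv_right (u := g) hg }
  refine h.irr M fun x hx => E.gen S (fun z hz => ?_) hM hx
  obtain ⟨l, hl⟩ := h.scalar (mem_zs.1 hz).2
  show Commute M (z : Matrix ι ι F)
  rw [hl]
  exact (Commute.one_right M).smul_right l

/-- The criterion for normalising. -/
theorem mem_normalizer (h : Ctx R) (E : Frame R e) {g : GL ι F} (hg : ∀ k, g * e k * g⁻¹ ∈ R) :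
    g ∈ Cfsg.Geo.subgroupNormalizer R := by
  haveI := h.fin
  let S : Subgroup (GL ι F) := R.comap (MulAut.conj g).toMonoidHom
  have hle : R ≤ S := E.gen S (fun z hz => by
    obtain ⟨hzR, hzc⟩ := mem_zs.1 hz
    obtain ⟨l, hl⟩ := h.scalar hzc
    show g * z * g⁻¹ ∈ R
    have : g * z = z * g := Units.ext (by rw [Units.val_mul, Units.val_mul, hl, mul_smul_comm, mul_one, smul_mul_assoc, one_mul])
    rw [this, mul_inv_cancel_right]
    exact hzR) fun k => hg k
  let f : R → R := fun x => ⟨g * x * g⁻¹, hle x.2⟩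
  have hf : Function.Injective f := fun u v huv => by
    have := congrArg Subtype.val huv
    simp only [f, mul_left_inj, mul_right_inj] at this
    exact Subtype.ext this
  refine Subgroup.mem_normalizer_iff.2 fun x => ⟨fun hx => hle hx, fun hx => ?_⟩
  obtain ⟨w, hw⟩ := (Finite.injective_iff_bijective.1 hf).2 ⟨_, hx⟩
  have := congrArg Subtype.val hw
  simp only [f, mul_left_inj, mul_right_inj] at this
  exact this ▸ w.2

theorem noncentral (h : Ctx R) (E : Frame R e) (k : Fin 5) : ¬ ∀ g ∈ R, e k * g = g * e k := fun hh => by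
  obtain ⟨l, hl⟩ := (show ∀ k : Fin 5, ∃ l, k ≠ l by decide) k
  have h1 := hh (e l) (E.mem l)
  rw [E.anti k l hl] at h1
  have h2 : (1 : GL ι F) * (e l * e k) = -1 * (e l * e k) := by rw [one_mul, neg_mul, one_mul]; exact h1.symm
  exact h.one_ne_neg (mul_right_cancel h2)

/-- In minus type the involutions outside the centre are the frame up to sign. -/
theorem involution_eq (h : Ctx R) (E : Frame R e) (hm : Cfsg.Geo.IsOfMinusType 2 R) {x : GL ι F} (hx : x ∈ R)
    (hxn : ¬ ∀ g ∈ R, x * g = g * x) (hx2 : x * x = 1) : ∃ k, x = e k ∨ x = -e k := by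
  by_contra h0
  push Not at h0
  have hanti : ∀ k, x * e k = -(e k * x) := fun k => (h.comm x hx _ (E.mem k)).resolve_left fun hc =>
    not_or.2 (h0 k) (h.minus_eq hm (E.mem k) hx (noncentral h E k) hxn (E.sq k) hx2 hc.symm)
  have h4 := hanti 4
  have h5 : x * (e 0 * e 1 * e 2 * e 3) = e 0 * e 1 * e 2 * e 3 * x := by
    have s : ∀ k u, x * (e k * u) = -(e k * (x * u)) := fun k u => by rw [← mul_assoc, hanti k, neg_mul, mul_assoc]
    simp only [mul_assoc, s, hanti 3, mul_neg, neg_neg]
  rw [E.rel, mul_neg, neg_mul, neg_inj] at h5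
  rw [h5] at h4
  have h6 : (1 : GL ι F) * (e 4 * x) = -1 * (e 4 * x) := by rw [one_mul, neg_mul, one_mul]; exact h4
  exact h.one_ne_neg (mul_right_cancel h6)

end Frame

end Cfsg.Lib.Linear.ExtraTwo
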