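import Mathlib
import Cfsg.Agent.Lib.Linear.ExtraTwo.Frame

/-!
# Elements normalising a group of symplectic type, built from a frame
-/

set_option autoImplicit false
set_option linter.style.haveILetI false

namespace Cfsg.Lib.Linear.ExtraTwo

variable {ι : Type} [Fintype ι] [DecidableEq ι] {F : Type*} [Field F] {R : Subgroup (GL ι F)} {e : Fin 5 → GL ι F}

/-- The matrix of a frame member. -/
def em (e : Fin 5 → GL ι F) (k : Fin 5) : Matrix ι ι F := (e k : Matrix ι ι F)

/-- The matrix of a lifted transposition. -/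
def um (e : Fin 5 → GL ι F) (k l : Fin 5) : Matrix ι ι F := em e k - em e l

theorem smul_one_ne (hι : Fintype.card ι = 4) {a b : F} (h : a ≠ b) : a • (1 : Matrix ι ι F) ≠ b • 1 := fun e => by
  obtain ⟨i⟩ : Nonempty ι := Fintype.card_pos_iff.1 (by rw [hι]; norm_num)
  exact h (by simpa using congrFun (congrFun e i) i)

namespace Frame

variable (E : Frame R e)
include E

theorem em_sq (k : Fin 5) : em e k * em e k = 1 := congrArg Units.val (E.sq k)

theorem em_anti {k l : Fin 5} (h : k ≠ l) : em e k * em e l = -(em e l * em e k) := congrArg Units.val (E.anti k l h)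

theorem um_sq {k l : Fin 5} (h : k ≠ l) : um e k l * um e k l = (2 : F) • 1 := by
  calc um e k l * um e k l = em e k * em e k + em e l * em e l - (em e k * em e l + em e l * em e k) := by
        rw [um]; noncomm_ring
    _ = (2 : F) • 1 := by rw [E.em_sq, E.em_sq, E.em_anti h, neg_add_cancel, sub_zero, two_smul]

theorem um_conj {k l : Fin 5} (h : k ≠ l) (m : Fin 5) :
    um e k l * em e m = -(em e (Equiv.swap k l m)) * um e k l := by
  rcases eq_or_ne m k with rfl | hk
  · rw [Equiv.swap_apply_left, um, sub_mul, neg_mul, mul_sub, E.em_sq, E.em_sq, neg_sub]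
  rcases eq_or_ne m l with rfl | hl
  · rw [Equiv.swap_apply_right, um, sub_mul, neg_mul, mul_sub, E.em_sq, E.em_sq, neg_sub]
  rw [Equiv.swap_apply_of_ne_of_ne hk hl, um, sub_mul, E.em_anti hk.symm, E.em_anti hl.symm, neg_mul, mul_sub]
  abel

/-- The lift of a three cycle. -/
theorem three_conj {a b c : Fin 5} (hab : a ≠ b) (hbc : b ≠ c) (m : Fin 5) :
    um e a b * um e b c * em e m = em e (Equiv.swap a b (Equiv.swap b c m)) * (um e a b * um e b c) := by
  rw [mul_assoc, E.um_conj hbc, ← mul_assoc, mul_neg, neg_mul, E.um_conj hab, neg_mul, neg_mul, neg_neg, mul_assoc]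

/-- The lift of a five cycle. -/
theorem five_conj (m : Fin 5) :
    um e 0 1 * um e 1 2 * (um e 2 3 * um e 3 4) * em e m = em e (m + 1) * (um e 0 1 * um e 1 2 * (um e 2 3 * um e 3 4)) := by
  rw [mul_assoc, E.three_conj (by decide : (2 : Fin 5) ≠ 3) (by decide), ← mul_assoc,
    E.three_conj (by decide : (0 : Fin 5) ≠ 1) (by decide), mul_assoc]
  rw [(show ∀ m : Fin 5, Equiv.swap (0 : Fin 5) 1 (Equiv.swap 1 2 (Equiv.swap 2 3 (Equiv.swap 3 4 m))) = m + 1 by decide) m]

theorem pow_five_scalar (h : Ctx R) :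
    ∃ c : F, (um e 0 1 * um e 1 2 * (um e 2 3 * um e 3 4)) ^ 5 = c • 1 := by
  obtain ⟨g, hg⟩ : ∃ g, g = um e 0 1 * um e 1 2 * (um e 2 3 * um e 3 4) := ⟨_, rfl⟩
  rw [← hg]
  have hpow : ∀ (n : ℕ) (m : Fin 5), g ^ n * em e m = em e ((fun x => x + 1)^[n] m) * g ^ n := fun n => by
    induction n with
    | zero => intro m; simp
    | succ n ih =>
      intro m
      rw [pow_succ, mul_assoc, hg, E.five_conj m, ← hg, ← mul_assoc, ih, mul_assoc, Function.iterate_succ_apply]
  refine Frame.scalar h E _ fun k => ?_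
  have := hpow 5 k
  rw [(show ∀ k : Fin 5, (fun x : Fin 5 => x + 1)^[5] k = k by decide) k] at this
  exact this

/-- Three anticommuting square roots. -/
theorem sum_sq {P Q T : Matrix ι ι F} {a b c : F} (hP : P * P = a • 1) (hQ : Q * Q = b • 1) (hT : T * T = c • 1)
    (h1 : P * Q = -(Q * P)) (h2 : P * T = -(T * P)) (h3 : Q * T = -(T * Q)) :
    (P + Q + T) * (P + Q + T) = (a + b + c) • 1 := by
  calc (P + Q + T) * (P + Q + T) = P * P + Q * Q + T * T + (P * Q + Q * P) + (P * T + T * P) + (Q * T + T * Q) := by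
        noncomm_ring
    _ = (a + b + c) • 1 := by
      rw [hP, hQ, hT, h1, h2, h3, neg_add_cancel, neg_add_cancel, neg_add_cancel, add_smul, add_smul]; simp

/-- The sum in the lift of a three cycle. -/
def am (e : Fin 5 → GL ι F) : Matrix ι ι F := em e 0 * em e 1 + em e 1 * em e 2 + em e 2 * em e 0

omit E in
theorem um_three (E : Frame R e) : um e 0 1 * um e 1 2 = am e - (1 : F) • 1 := by
  rw [one_smul]
  calc um e 0 1 * um e 1 2 = em e 0 * em e 1 - em e 0 * em e 2 - em e 1 * em e 1 + em e 1 * em e 2 := by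
        rw [um, um]; noncomm_ring
    _ = am e - 1 := by rw [E.em_sq, E.em_anti (by decide : (0 : Fin 5) ≠ 2), am]; abel

theorem pair_sq {k l : Fin 5} (h : k ≠ l) : em e k * em e l * (em e k * em e l) = (-1 : F) • 1 := by
  calc em e k * em e l * (em e k * em e l) = em e k * (em e l * em e k) * em e l := by simp only [mul_assoc]
    _ = -(em e k * em e k * (em e l * em e l)) := by
        rw [E.em_anti h.symm]; simp only [mul_neg, neg_mul, mul_assoc]
    _ = (-1 : F) • 1 := by rw [E.em_sq, E.em_sq, one_mul, neg_one_smul]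

theorem pair_anti {k l m : Fin 5} (h1 : k ≠ l) (h2 : l ≠ m) (h3 : m ≠ k) :
    em e k * em e l * (em e l * em e m) = -(em e l * em e m * (em e k * em e l)) := by
  calc em e k * em e l * (em e l * em e m) = em e k * (em e l * em e l) * em e m := by simp only [mul_assoc]
    _ = em e k * em e m := by rw [E.em_sq, mul_one]
    _ = -(em e m * em e k) := E.em_anti h3.symm
    _ = -(em e l * (em e m * (em e k * em e l))) := by
      rw [neg_inj]
      have e1 : em e m * (em e k * em e l) = em e l * (em e m * em e k) := by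
        rw [← mul_assoc (em e l), E.em_anti h2, neg_mul, mul_assoc (em e m) (em e l), E.em_anti h1.symm, mul_neg, neg_neg]
      rw [e1, ← mul_assoc, E.em_sq, one_mul]
    _ = _ := by simp only [mul_assoc]

theorem am_sq : am e * am e = (-3 : F) • 1 := by
  rw [am, E.sum_sq (E.pair_sq (by decide)) (E.pair_sq (by decide)) (E.pair_sq (by decide))
    (E.pair_anti (by decide) (by decide) (by decide))
    (neg_eq_iff_eq_neg.1 (E.pair_anti (k := 2) (l := 0) (m := 1) (by decide) (by decide) (by decide)).symm)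
    (E.pair_anti (by decide) (by decide) (by decide))]
  norm_num

omit E in
theorem cube {B : Matrix ι ι F} {a c : F} (hB : B * B = a • 1) (hac : a + 3 * c ^ 2 = 0) :
    (B - c • 1) ^ 3 = (-c * (3 * a + c ^ 2)) • 1 := by
  have h3 : a = -(3 * c ^ 2) := by linear_combination hac
  simp only [pow_succ, pow_zero, one_mul, sub_mul, mul_sub, smul_mul_assoc, mul_smul_comm, mul_one, one_mul, hB, smul_smul]
  rw [h3]
  module

theorem three_cube : (um e 0 1 * um e 1 2) ^ 3 = (8 : F) • 1 := by
  rw [um_three E, cube E.am_sq (by norm_num)]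
  norm_num

theorem mem_of_conj {M : GL ι F} {m : Fin 5} {X : GL ι F}
    (hM : (M : Matrix ι ι F) * em e m = (X : Matrix ι ι F) * M) : M * e m * M⁻¹ = X := by
  rw [mul_inv_eq_iff_eq_mul]
  exact Units.ext hM

theorem three_mem (h : Ctx R) {M : GL ι F} {c : F} (hc : c ≠ 0) (hM : (M : Matrix ι ι F) = c • (um e 0 1 * um e 1 2)) :
    M ∈ Cfsg.Geo.subgroupNormalizer R := Frame.mem_normalizer h E fun k => by
  rw [E.mem_of_conj (X := e (Equiv.swap 0 1 (Equiv.swap 1 2 k)))]
  · exact E.mem _
  · rw [hM, smul_mul_assoc, E.three_conj (by decide) (by decide), mul_smul_comm]; rfl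

theorem five_mem (h : Ctx R) {M : GL ι F} {c : F}
    (hM : (M : Matrix ι ι F) = c • (um e 0 1 * um e 1 2 * (um e 2 3 * um e 3 4))) :
    M ∈ Cfsg.Geo.subgroupNormalizer R := Frame.mem_normalizer h E fun k => by
  rw [E.mem_of_conj (X := e (k + 1))]
  · exact E.mem _
  · rw [hM, smul_mul_assoc, E.five_conj, mul_smul_comm]; rfl

theorem five_nonscalar (h : Ctx R) {M : GL ι F} {c : F}
    (hM : (M : Matrix ι ι F) = c • (um e 0 1 * um e 1 2 * (um e 2 3 * um e 3 4))) (z : F) :
    (M : Matrix ι ι F) ≠ z • 1 := fun hz => by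
  have h1 : M * e 0 * M⁻¹ = e 1 := E.mem_of_conj (by rw [hM, smul_mul_assoc, E.five_conj, mul_smul_comm]; rfl)
  have h2 : M * e 0 * M⁻¹ = e 0 := E.mem_of_conj (by rw [hz, smul_mul_assoc, mul_smul_comm, one_mul, mul_one]; rfl)
  have h3 : e 0 * e 1 = -(e 1 * e 0) := E.anti 0 1 (by decide)
  rw [← h1, h2, E.sq] at h3
  exact h.one_ne_neg h3

theorem trace_em (h : Ctx R) (k : Fin 5) : (em e k).trace = 0 := h.trace_noncentral (E.mem k) (Frame.noncentral h E k)

theorem trace_pair (h : Ctx R) {k l : Fin 5} (hkl : k ≠ l) : (em e k * em e l).trace = 0 := by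
  rw [em, em, ← Units.val_mul]
  refine h.trace_anti (y := e k) ?_
  calc e k * e l * e k = e k * (e l * e k) := mul_assoc _ _ _
    _ = -(e k * (e k * e l)) := by rw [E.anti l k hkl.symm, mul_neg]

theorem trace_am (h : Ctx R) : (am e).trace = 0 := by
  rw [am, Matrix.trace_add, Matrix.trace_add, E.trace_pair h (by decide), E.trace_pair h (by decide), E.trace_pair h (by decide)]
  simp

theorem trace_three (h : Ctx R) : (um e 0 1 * um e 1 2).trace = -4 := by
  rw [um_three E, Matrix.trace_sub, E.trace_am h, Matrix.trace_smul, Matrix.trace_one, h.card_ι]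
  simp

/-- The second sum, for the lift of a transposition pair with a square root of `-1`. -/
def bm (e : Fin 5 → GL ι F) (s : F) : Matrix ι ι F := em e 3 - em e 4 + s • (em e 4 * em e 3)

/-- The lift of the outer three cycle. -/
def km (e : Fin 5 → GL ι F) (s : F) : Matrix ι ι F := (1 + s • em e 4) * um e 3 4

theorem km_eq (s : F) : km e s = bm e s - s • 1 := by
  rw [km, um, bm, add_mul, one_mul, smul_mul_assoc, mul_sub, E.em_sq, smul_sub]
  abel

theorem bm_sq {s : F} (hs : s ^ 2 = -1) : bm e s * bm e s = (3 : F) • 1 := by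
  have hw : s • (em e 4 * em e 3) * (s • (em e 4 * em e 3)) = (1 : F) • 1 := by
    rw [smul_mul_smul_comm, E.pair_sq (by decide), smul_smul]
    rw [show s * s * -1 = (1 : F) by linear_combination -hs]
  have h3 : em e 3 * (em e 4 * em e 3) = -(em e 4 * em e 3 * em e 3) := by
    rw [← mul_assoc, E.em_anti (by decide : (3 : Fin 5) ≠ 4), neg_mul]
  have h4 : -em e 4 * (em e 4 * em e 3) = -(em e 4 * em e 3 * -em e 4) := by
    rw [mul_assoc (em e 4), mul_neg, E.em_anti (by decide : (3 : Fin 5) ≠ 4), neg_neg, neg_mul]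
  rw [bm, sub_eq_add_neg, E.sum_sq (a := 1) (b := 1) (c := 1)]
  · norm_num
  · rw [E.em_sq, one_smul]
  · rw [neg_mul_neg, E.em_sq, one_smul]
  · exact hw
  · rw [mul_neg, neg_mul, E.em_anti (by decide : (3 : Fin 5) ≠ 4)]
  · rw [mul_smul_comm, h3, smul_mul_assoc, smul_neg]
  · rw [mul_smul_comm, h4, smul_mul_assoc, smul_neg]

theorem km_cube {s : F} (hs : s ^ 2 = -1) : km e s ^ 3 = (-(8 * s)) • 1 := by
  rw [E.km_eq, cube (E.bm_sq hs) (by linear_combination 3 * hs)]
  congr 1
  linear_combination -s * hs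

theorem three_comm_km (s : F) : Commute (um e 0 1 * um e 1 2) (km e s) := by
  have h3 : Commute (um e 0 1 * um e 1 2) (em e 3) := by
    have := E.three_conj (by decide : (0 : Fin 5) ≠ 1) (by decide : (1 : Fin 5) ≠ 2) 3
    rwa [show Equiv.swap (0 : Fin 5) 1 (Equiv.swap 1 2 3) = 3 by decide] at this
  have h4 : Commute (um e 0 1 * um e 1 2) (em e 4) := by
    have := E.three_conj (by decide : (0 : Fin 5) ≠ 1) (by decide : (1 : Fin 5) ≠ 2) 4
    rwa [show Equiv.swap (0 : Fin 5) 1 (Equiv.swap 1 2 4) = 4 by decide] at this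
  exact ((Commute.one_right _).add_right (h4.smul_right s)).mul_right (h3.sub_right h4)

theorem em_flip {a k l : Fin 5} (hk : a ≠ k) (hl : a ≠ l) : Commute (em e a) (em e k * em e l) := by
  show em e a * (em e k * em e l) = em e k * em e l * em e a
  rw [← mul_assoc, E.em_anti hk, neg_mul, mul_assoc, E.em_anti hl, mul_neg, neg_neg, mul_assoc]

omit E in
theorem trace_conj_neg (h : Ctx R) {N : GL ι F} {X : Matrix ι ι F} (hX : (N : Matrix ι ι F) * X = -(X * N)) : X.trace = 0 := by
  have h1 : X = -((N : Matrix ι ι F) * X * (N⁻¹ : GL ι F).val) := by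
    rw [hX, neg_mul, neg_neg, mul_assoc, Units.mul_inv, mul_one]
  have h2 := congrArg Matrix.trace h1
  rw [Matrix.trace_neg, Matrix.trace_mul_cycle, Units.inv_mul, one_mul] at h2
  have h5 : (2 : F) * X.trace = 0 := by linear_combination h2
  exact (mul_eq_zero.1 h5).resolve_left h.two

theorem trace_three_km (h : Ctx R) (s : F) : (um e 0 1 * um e 1 2 * km e s).trace = 4 * s := by
  have hA : Commute (em e 0 * em e 1 * em e 2) (am e) := by
    have flip : ∀ {k l : Fin 5}, k ≠ l → em e k * (em e k * em e l) = -(em e k * em e l * em e k) ∧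
        em e l * (em e k * em e l) = -(em e k * em e l * em e l) := fun {k l} hkl => by
      constructor
      · rw [mul_assoc (em e k) (em e l), E.em_anti hkl.symm, mul_neg, neg_neg]
      · rw [← mul_assoc, E.em_anti hkl.symm, neg_mul]
    have two : ∀ {x y z X : Matrix ι ι F}, x * X = -(X * x) → y * X = -(X * y) → z * X = X * z → Commute (x * y * z) X :=
      fun {x y z X} hx hy hz => by
        show x * y * z * X = X * (x * y * z)
        rw [mul_assoc, hz, ← mul_assoc, mul_assoc x, hy, mul_neg, neg_mul, ← mul_assoc, hx, neg_mul, neg_mul, neg_neg]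
        simp only [mul_assoc]
    have two' : ∀ {x y z X : Matrix ι ι F}, x * X = X * x → y * X = -(X * y) → z * X = -(X * z) → Commute (x * y * z) X :=
      fun {x y z X} hx hy hz => by
        show x * y * z * X = X * (x * y * z)
        rw [mul_assoc, hz, mul_neg, ← mul_assoc, mul_assoc x, hy, mul_neg, neg_mul, neg_neg, ← mul_assoc, hx]
        simp only [mul_assoc]
    have two'' : ∀ {x y z X : Matrix ι ι F}, x * X = -(X * x) → y * X = X * y → z * X = -(X * z) → Commute (x * y * z) X :=
      fun {x y z X} hx hy hz => by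
        show x * y * z * X = X * (x * y * z)
        rw [mul_assoc, hz, mul_neg, ← mul_assoc, mul_assoc x, hy, ← mul_assoc, hx, neg_mul, neg_mul, neg_neg]
        simp only [mul_assoc]
    refine ((two (flip (by decide)).1 (flip (by decide)).2 (E.em_flip (by decide) (by decide))).add_right
      (two' (E.em_flip (by decide) (by decide)) (flip (by decide)).1 (flip (by decide)).2)).add_right
      (two'' (flip (by decide)).2 (E.em_flip (by decide) (by decide)) (flip (by decide)).1)
  have hB : ∀ m : Fin 5, m = 3 ∨ m = 4 → em e 0 * em e 1 * em e 2 * em e m = -(em e m * (em e 0 * em e 1 * em e 2)) := fun m hm => by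
    have hm' : ∀ k : Fin 5, k = 0 ∨ k = 1 ∨ k = 2 → k ≠ m := by revert m; decide
    have q : ∀ k : Fin 5, k ≠ m → ∀ u, em e k * (em e m * u) = -(em e m * (em e k * u)) := fun k hk u => by
      rw [← mul_assoc, E.em_anti hk, neg_mul, mul_assoc]
    simp only [mul_assoc]
    rw [E.em_anti (hm' 2 (by simp)), mul_neg, mul_neg, q 1 (hm' 1 (by simp)), mul_neg, neg_neg, q 0 (hm' 0 (by simp))]
  let N : GL ι F := e 0 * e 1 * e 2
  have hN : (N : Matrix ι ι F) = em e 0 * em e 1 * em e 2 := rfl
  have t1 : (am e * (em e 3 - em e 4)).trace = 0 := trace_conj_neg h (N := N) (by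
    rw [hN, ← mul_assoc, hA.eq, mul_assoc, mul_sub, hB 3 (Or.inl rfl), hB 4 (Or.inr rfl)]
    noncomm_ring)
  have t2 : (am e * (em e 4 * em e 3)).trace = 0 := trace_conj_neg h (N := e 3) (by
    show em e 3 * _ = -(_ * em e 3)
    have hc : Commute (em e 3) (am e) := ((E.em_flip (by decide) (by decide)).add_right
      (E.em_flip (by decide) (by decide))).add_right (E.em_flip (by decide) (by decide))
    rw [← mul_assoc, hc.eq, mul_assoc, ← mul_assoc (em e 3), E.em_anti (by decide : (3 : Fin 5) ≠ 4), neg_mul, mul_neg]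
    simp only [mul_assoc])
  have t3 : (am e * bm e s).trace = 0 := by
    rw [bm, mul_add, Matrix.trace_add, t1, mul_smul_comm, Matrix.trace_smul, t2]; simp
  have t4 : (bm e s).trace = 0 := by
    rw [bm, Matrix.trace_add, Matrix.trace_sub, E.trace_em h, E.trace_em h, Matrix.trace_smul, E.trace_pair h (by decide)]
    simp
  rw [um_three E, E.km_eq, sub_mul, mul_sub, mul_sub, smul_mul_assoc, one_mul, mul_smul_comm, mul_one,
    smul_mul_assoc, one_mul, smul_smul, one_mul, one_smul]
  rw [Matrix.trace_sub, Matrix.trace_sub, Matrix.trace_sub, Matrix.trace_smul, t3, t4, E.trace_am h, Matrix.trace_smul, Matrix.trace_one, h.card_ι]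
  push_cast
  simp [mul_comm]

theorem v_conj {s : F} (hs : s ^ 2 = -1) {k : Fin 5} (hk : k ≠ 4) :
    (1 + s • em e 4) * em e k = -(s • (em e k * em e 4)) * (1 + s • em e 4) := by
  have h2 : em e k * em e 4 * em e 4 = em e k := by rw [mul_assoc, E.em_sq, mul_one]
  rw [add_mul, one_mul, smul_mul_assoc, E.em_anti hk.symm, mul_add, mul_one, mul_smul_comm, neg_mul, smul_mul_assoc, h2,
    smul_neg, smul_neg, smul_smul, show s * s = (-1 : F) by linear_combination hs, neg_one_smul, neg_neg]
  abel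

theorem km_mem (h : Ctx R) {s : F} (hs : s ^ 2 = -1) {S : GL ι F} (hS : S ∈ R) (hSs : (S : Matrix ι ι F) = s • 1)
    {M : GL ι F} {c : F} (hM : (M : Matrix ι ι F) = c • km e s) :
    M ∈ Cfsg.Geo.subgroupNormalizer R := Frame.mem_normalizer h E fun k => by
  obtain ⟨m, hm⟩ : ∃ m, m = Equiv.swap (3 : Fin 5) 4 k := ⟨_, rfl⟩
  have hk : km e s * em e k = (1 + s • em e 4) * -(em e m) * um e 3 4 := by
    rw [km, mul_assoc, E.um_conj (by decide), ← hm, mul_assoc]
  rcases eq_or_ne m 4 with h4 | h4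
  · rw [E.mem_of_conj (X := -e 4)]
    · exact h.neg_mem' (E.mem 4)
    · rw [hM, smul_mul_assoc, hk, h4, Units.val_neg, mul_smul_comm]
      congr 1
      show _ = -(em e 4) * _
      rw [km, ← mul_assoc]
      congr 1
      rw [add_mul, mul_add, one_mul, mul_one, smul_mul_assoc, mul_neg, mul_smul_comm, neg_mul, smul_neg]
  · rw [E.mem_of_conj (X := S * (e m * e 4))]
    · exact mul_mem hS (mul_mem (E.mem m) (E.mem 4))
    · rw [hM, smul_mul_assoc, hk, Units.val_mul, Units.val_mul, hSs, mul_smul_comm, mul_neg, E.v_conj hs h4,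
        neg_mul, neg_mul, neg_mul, neg_neg, smul_mul_assoc (s : F) (1 : Matrix ι ι F), one_mul, km, ← mul_assoc]
      rfl

/-- The involution with trace two. -/
def cm (e : Fin 5 → GL ι F) (s : F) : Matrix ι ι F :=
  (2 : F)⁻¹ • (1 + em e 0 + s • (em e 1 * em e 2) - s • (em e 0 * (em e 1 * em e 2)))

omit E in
theorem cm_sq_aux {a b : Matrix ι ι F} (ha : a * a = 1) (hb : b * b = 1) (hab : Commute a b) :
    (1 + a + b - a * b) * (1 + a + b - a * b) = (4 : F) • 1 := by
  have h1 : a * (a * b) = b := by rw [← mul_assoc, ha, one_mul]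
  have h2 : b * (a * b) = a := by rw [hab.eq, ← mul_assoc, hb, one_mul]
  have h3 : a * b * (a * b) = 1 := by rw [mul_assoc, h2, ha]
  have h4 : a * b * a = b := by rw [mul_assoc, ← hab.eq, h1]
  have h5 : a * b * b = a := by rw [mul_assoc, hb, mul_one]
  calc (1 + a + b - a * b) * (1 + a + b - a * b) = 1 + a + b - a * b + (a + a * a + a * b - a * (a * b))
        + (b + b * a + b * b - b * (a * b)) - (a * b + a * b * a + a * b * b - a * b * (a * b)) := by noncomm_ring
    _ = (4 : F) • 1 := by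
      rw [ha, hb, h1, h2, h3, h4, h5, ← hab.eq, show (4 : F) = 1 + 1 + 1 + 1 by norm_num, add_smul, add_smul, add_smul, one_smul]
      abel

theorem cm_pair {s : F} (hs : s ^ 2 = -1) : s • (em e 1 * em e 2) * (s • (em e 1 * em e 2)) = 1 := by
  rw [smul_mul_smul_comm, E.pair_sq (by decide), smul_smul, show s * s * -1 = (1 : F) by linear_combination -hs, one_smul]

theorem cm_sq (h2 : (2 : F) ≠ 0) {s : F} (hs : s ^ 2 = -1) : cm e s * cm e s = 1 := by
  rw [cm, smul_mul_smul_comm, ← mul_smul_comm s (em e 0), cm_sq_aux (E.em_sq 0) (E.cm_pair hs)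
    ((E.em_flip (by decide) (by decide)).smul_right s), smul_smul,
    show (2 : F)⁻¹ * 2⁻¹ * 4 = 1 by rw [show (4 : F) = 2 * 2 by norm_num]; field_simp, one_smul]

theorem trace_cm (h : Ctx R) (s : F) : (cm e s).trace = 2 := by
  have h3 : (em e 0 * (em e 1 * em e 2)).trace = 0 := trace_conj_neg h (N := e 3) (by
    show em e 3 * _ = -(_ * em e 3)
    rw [← mul_assoc, E.em_anti (by decide : (3 : Fin 5) ≠ 0), neg_mul, mul_assoc, (E.em_flip (by decide) (by decide) : Commute (em e 3) (em e 1 * em e 2)).eq]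
    simp only [mul_assoc])
  rw [cm, Matrix.trace_smul, Matrix.trace_sub, Matrix.trace_add, Matrix.trace_add, Matrix.trace_smul, Matrix.trace_smul,
    E.trace_em h, E.trace_pair h (by decide), h3, Matrix.trace_one, h.card_ι]
  simp only [smul_eq_mul, mul_zero, add_zero, sub_zero, Nat.cast_ofNat]
  rw [inv_mul_eq_iff_eq_mul₀ h.two]; norm_num

omit E in
theorem cm_rule₁ {a b x : Matrix ι ι F} (hb : b * b = 1) (hab : Commute a b) (hxa : a * x = -(x * a)) (hxb : Commute b x) :
    (1 + a + b - a * b) * x = x * b * (1 + a + b - a * b) := by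
  have h1 : a * b * x = -(x * (a * b)) := by rw [mul_assoc, hxb.eq, ← mul_assoc, hxa, neg_mul, mul_assoc]
  have h2 : b * (a * b) = a := by rw [hab.eq, ← mul_assoc, hb, one_mul]
  calc (1 + a + b - a * b) * x = x + a * x + b * x - a * b * x := by noncomm_ring
    _ = x + -(x * a) + x * b - -(x * (a * b)) := by rw [hxa, hxb.eq, h1]
    _ = x * (b + b * a + b * b - b * (a * b)) := by rw [h2, hb, ← hab.eq]; noncomm_ring
    _ = _ := by noncomm_ring

omit E in
theorem cm_rule₂ {a b x : Matrix ι ι F} (ha : a * a = 1) (hb : b * b = 1) (hab : Commute a b)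
    (hxa : a * x = -(x * a)) (hxb : b * x = -(x * b)) :
    (1 + a + b - a * b) * x = -(x * (a * b)) * (1 + a + b - a * b) := by
  have h1 : a * b * x = x * (a * b) := by rw [mul_assoc, hxb, mul_neg, ← mul_assoc, hxa, neg_mul, neg_neg, mul_assoc]
  have h2 : a * b * a = b := by rw [mul_assoc, ← hab.eq, ← mul_assoc, ha, one_mul]
  have h3 : a * b * b = a := by rw [mul_assoc, hb, mul_one]
  have h4 : a * b * (a * b) = 1 := by rw [← mul_assoc, h2, hb]
  calc (1 + a + b - a * b) * x = x + a * x + b * x - a * b * x := by noncomm_ring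
    _ = x + -(x * a) + -(x * b) - x * (a * b) := by rw [hxa, hxb, h1]
    _ = -(x * (a * b + a * b * a + a * b * b - a * b * (a * b))) := by rw [h2, h3, h4]; noncomm_ring
    _ = _ := by noncomm_ring

theorem cm_mem (h : Ctx R) {s : F} (hs : s ^ 2 = -1) {S : GL ι F} (hS : S ∈ R) (hSs : (S : Matrix ι ι F) = s • 1)
    {M : GL ι F} {c : F} (hM : (M : Matrix ι ι F) = c • cm e s) :
    M ∈ Cfsg.Geo.subgroupNormalizer R := Frame.mem_normalizer h E fun k => by
  obtain ⟨a, ha⟩ : ∃ a, a = em e 0 := ⟨_, rfl⟩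
  obtain ⟨b, hb⟩ : ∃ b, b = s • (em e 1 * em e 2) := ⟨_, rfl⟩
  have hC : cm e s = (2 : F)⁻¹ • (1 + a + b - a * b) := by rw [cm, ha, hb, mul_smul_comm]
  have hab : Commute a b := ha ▸ hb ▸ (E.em_flip (by decide) (by decide)).smul_right s
  have hbb : b * b = 1 := hb ▸ E.cm_pair hs
  have haa : a * a = 1 := ha ▸ E.em_sq 0
  have fin' : ∀ X : GL ι F, (1 + a + b - a * b) * em e k = (X : Matrix ι ι F) * (1 + a + b - a * b) → X ∈ R → M * e k * M⁻¹ ∈ R := by
    intro X hX hXR
    rw [E.mem_of_conj (X := X)]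
    · exact hXR
    · rw [hM, hC, smul_smul, smul_mul_assoc, hX, mul_smul_comm]
  rcases (show ∀ k : Fin 5, k = 0 ∨ (k = 1 ∨ k = 2) ∨ (k = 3 ∨ k = 4) by decide) k with rfl | hk | hk
  · refine fin' (e 0) ?_ (E.mem 0)
    show _ = em e 0 * _
    rw [← ha]
    have h1 : Commute a (1 + a + b - a * b) :=
      (((Commute.one_right a).add_right (Commute.refl a)).add_right hab).sub_right ((Commute.refl a).mul_right hab)
    exact h1.eq.symm
  · have hk0 : k ≠ 0 := by rcases hk with rfl | rfl <;> decide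
    have h1 : em e 1 * em e 2 * em e k = -(em e k * (em e 1 * em e 2)) := by
      rcases hk with rfl | rfl
      · rw [mul_assoc, E.em_anti (by decide : (2 : Fin 5) ≠ 1), mul_neg]
      · rw [← mul_assoc (em e 2), E.em_anti (by decide : (2 : Fin 5) ≠ 1), neg_mul, neg_neg]
    refine fin' (-(e k * (e 0 * (S * (e 1 * e 2))))) ?_ (h.neg_mem' (mul_mem (E.mem k) (mul_mem (E.mem 0) (mul_mem hS (mul_mem (E.mem 1) (E.mem 2))))))
    rw [Units.val_neg, Units.val_mul, Units.val_mul, Units.val_mul, Units.val_mul, hSs, smul_mul_assoc, one_mul]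
    show _ = -(em e k * (em e 0 * (s • (em e 1 * em e 2)))) * _
    rw [← ha, ← hb]
    exact cm_rule₂ haa hbb hab (ha ▸ E.em_anti hk0.symm) (by rw [hb, smul_mul_assoc, h1, mul_smul_comm, smul_neg])
  · have hk0 : k ≠ 0 ∧ k ≠ 1 ∧ k ≠ 2 := by rcases hk with rfl | rfl <;> decide
    refine fin' (e k * (S * (e 1 * e 2))) ?_ (mul_mem (E.mem k) (mul_mem hS (mul_mem (E.mem 1) (E.mem 2))))
    rw [Units.val_mul, Units.val_mul, Units.val_mul, hSs, smul_mul_assoc, one_mul]
    show _ = em e k * (s • (em e 1 * em e 2)) * _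
    rw [← hb]
    exact cm_rule₁ hbb hab (ha ▸ E.em_anti hk0.1.symm) (hb ▸ ((E.em_flip hk0.2.1 hk0.2.2).smul_right s).symm)

end Frame

end Cfsg.Lib.Linear.ExtraTwo
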