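import Mathlib
import Cfsg.Agent.Lib.Linear.ExtraTwo.Frame

/-!
# Transvections do not normalise groups of symplectic type

Also the constraint on fixed cosets for elements of order three in minus type.
-/

set_option autoImplicit false
set_option linter.style.haveILetI false

namespace Cfsg.Lib.Linear.ExtraTwo

variable {ι : Type} [Fintype ι] [DecidableEq ι] {F : Type*} [Field F] {R : Subgroup (GL ι F)}

/-- Scalars are central. -/
theorem comm_of_scalar {a : GL ι F} {l : F} (hl : (a : Matrix ι ι F) = l • 1) (u : GL ι F) : Commute a u :=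
  Units.ext (show (a : Matrix ι ι F) * u = (u : Matrix ι ι F) * a by
    rw [hl, mul_smul_comm, mul_one, smul_mul_assoc, one_mul])

namespace Ctx

variable (h : Ctx R) {r : ℕ} [Fact r.Prime] {y : GL ι F}
include h

/-- An element fixing a hyperplane is scalar in minus type. -/
theorem transvection_minus (hm : Cfsg.Geo.IsOfMinusType 2 R) {e : Fin 5 → GL ι F} (E : Frame R e) (hr : r ≠ 2)
    (hyr : y ^ r = 1) (hy : ∀ x ∈ R, y * x * y⁻¹ ∈ R) (φ : (ι → F) →ₗ[F] F)
    (hφ : ∀ v, φ v = 0 → (y : Matrix ι ι F).mulVec v = v) : ∃ l : F, (y : Matrix ι ι F) = l • 1 := by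
  refine Frame.scalar h E _ fun k => ?_
  suffices hk : y * e k = e k * y from congrArg Units.val hk
  have hc := h.inv_commute hy φ hφ (E.mem k) (E.sq k)
  have h2 : y * e k * y⁻¹ * (y * e k * y⁻¹) = 1 := by
    calc y * e k * y⁻¹ * (y * e k * y⁻¹) = y * (e k * e k) * y⁻¹ := by simp [mul_assoc]
      _ = 1 := by rw [E.sq]; simp
  have hn : ¬ ∀ g ∈ R, y * e k * y⁻¹ * g = g * (y * e k * y⁻¹) := fun hh => by
    obtain ⟨l, hl⟩ := h.scalar hh
    refine Frame.noncentral h E k fun g _ => ?_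
    have e1 : e k = y⁻¹ * (y * e k * y⁻¹) * y := by simp [mul_assoc]
    have hcomm : ∀ u : GL ι F, Commute (y * e k * y⁻¹) u := comm_of_scalar hl
    rw [e1, ← (hcomm y⁻¹).eq, inv_mul_cancel_right]
    exact hcomm g
  refine h.fixed_of_central hr hyr (E.mem k) (hy _ (E.mem k)) fun g _ => ?_
  rcases h.minus_eq hm (E.mem k) (hy _ (E.mem k)) (Frame.noncentral h E k) hn (E.sq k) h2 hc with e' | e' <;> rw [e']
  · rw [mul_inv_cancel, one_mul, mul_one]
  · rw [inv_neg, mul_neg, mul_inv_cancel, neg_mul, one_mul, mul_neg, mul_one]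

/-- An element fixing a hyperplane is scalar when the centre has order four. -/
theorem transvection_four (h4 : Nat.card (zs R) = 4) (hr : r ≠ 2) (hyr : y ^ r = 1) (hy : ∀ x ∈ R, y * x * y⁻¹ ∈ R)
    (φ : (ι → F) →ₗ[F] F) (hφ : ∀ v, φ v = 0 → (y : Matrix ι ι F).mulVec v = v) :
    ∃ l : F, (y : Matrix ι ι F) = l • 1 := by
  obtain ⟨s, hs, hss⟩ := h.exists_root h4
  obtain ⟨hsR, hsc⟩ := mem_zs.1 hs
  obtain ⟨l, hl⟩ := h.scalar hsc
  have hsu : ∀ u : GL ι F, Commute s u := fun u => Units.ext (by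
    rw [Units.val_mul, Units.val_mul, hl, mul_smul_comm, mul_one, smul_mul_assoc, one_mul])
  have hall : ∀ m ∈ R, m * (y * m * y⁻¹) = y * m * y⁻¹ * m := fun m hm => by
    rcases h.sq m hm with e | e
    · exact h.inv_commute hy φ hφ hm e
    · have h1 : s * m * (s * m) = 1 := by
        calc s * m * (s * m) = s * (m * s) * m := by simp only [mul_assoc]
          _ = s * s * (m * m) := by rw [← (hsu m).eq]; simp only [mul_assoc]
          _ = 1 := by rw [hss, e, neg_mul_neg, one_mul]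
      have h2 := h.inv_commute hy φ hφ (mul_mem hsR hm) h1
      have h3 : y * (s * m) * y⁻¹ = s * (y * m * y⁻¹) := by rw [← mul_assoc, ← (hsu y).eq]; simp only [mul_assoc]
      rw [h3] at h2
      have h4 : s * s * (m * (y * m * y⁻¹)) = s * s * (y * m * y⁻¹ * m) := by
        calc s * s * (m * (y * m * y⁻¹)) = s * (s * m) * (y * m * y⁻¹) := by simp only [mul_assoc]
          _ = s * m * (s * (y * m * y⁻¹)) := by rw [(hsu (s * m)).eq]; simp only [mul_assoc]
          _ = s * (y * m * y⁻¹) * (s * m) := h2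
          _ = s * s * (y * m * y⁻¹ * m) := by
            rw [mul_assoc, ← mul_assoc (y * m * y⁻¹) s m, ← (hsu (y * m * y⁻¹)).eq]; simp only [mul_assoc]
      exact mul_left_cancel h4
  have hswap : ∀ m ∈ R, ∀ n ∈ R, m * (y * n * y⁻¹) = y * n * y⁻¹ * m → n * (y * m * y⁻¹) = y * m * y⁻¹ * n := fun m hm n hn hmn => by
    refine (h.comm n hn _ (hy m hm)).resolve_right fun he => ?_
    have h1 := hall _ (mul_mem hm hn)
    rw [show y * (m * n) * y⁻¹ = y * m * y⁻¹ * (y * n * y⁻¹) by simp [mul_assoc]] at h1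
    have h2 : m * n * (y * m * y⁻¹ * (y * n * y⁻¹)) = -(y * m * y⁻¹ * (y * n * y⁻¹) * (m * n)) := by
      calc m * n * (y * m * y⁻¹ * (y * n * y⁻¹)) = m * (n * (y * m * y⁻¹)) * (y * n * y⁻¹) := by simp only [mul_assoc]
        _ = -(m * (y * m * y⁻¹) * (n * (y * n * y⁻¹))) := by rw [he]; simp only [mul_neg, neg_mul, mul_assoc]
        _ = -(y * m * y⁻¹ * (m * (y * n * y⁻¹)) * n) := by rw [hall m hm, hall n hn]; simp only [mul_assoc]
        _ = -(y * m * y⁻¹ * (y * n * y⁻¹) * (m * n)) := by rw [hmn]; simp only [mul_assoc]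
    rw [h1] at h2
    exact h.one_ne_neg (mul_right_cancel (b := y * m * y⁻¹ * (y * n * y⁻¹) * (m * n))
      (by rw [one_mul, neg_mul, one_mul]; exact h2))
  refine h.scalar fun m hm => ?_
  have hy2 : ∀ x ∈ R, y ^ 2 * x * (y ^ 2)⁻¹ ∈ R := fun x hx => by
    rw [pow_two, _root_.mul_inv_rev, show y * y * x * (y⁻¹ * y⁻¹) = y * (y * x * y⁻¹) * y⁻¹ by simp only [mul_assoc]]
    exact hy _ (hy x hx)
  have hiff : ∀ n ∈ R, n * m = m * n ↔ n * (y ^ 2 * m * (y ^ 2)⁻¹) = y ^ 2 * m * (y ^ 2)⁻¹ * n := fun n hn => by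
    have e : y ^ 2 * m * (y ^ 2)⁻¹ = y * (y * m * y⁻¹) * y⁻¹ := by rw [pow_two, _root_.mul_inv_rev]; simp only [mul_assoc]
    rw [e]
    constructor
    · intro hc
      refine hswap _ (hy m hm) n hn ?_
      rw [show y * m * y⁻¹ * (y * n * y⁻¹) = y * (m * n) * y⁻¹ by simp [mul_assoc], ← hc]; simp [mul_assoc]
    · intro hc
      have h1 := hswap n hn _ (hy m hm) hc
      rw [show y * m * y⁻¹ * (y * n * y⁻¹) = y * (m * n) * y⁻¹ by simp [mul_assoc],
        show y * n * y⁻¹ * (y * m * y⁻¹) = y * (n * m) * y⁻¹ by simp [mul_assoc]] at h1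
      exact (mul_left_cancel (mul_right_cancel h1)).symm
  have h5 : y ^ 2 * m = m * y ^ 2 := by
    refine h.fixed_of_central hr (by rw [← pow_mul, mul_comm, pow_mul, hyr, one_pow]) hm (hy2 m hm) fun g hg => ?_
    have hM := hy2 m hm
    obtain ⟨M, hMdef⟩ : ∃ M, M = y ^ 2 * m * (y ^ 2)⁻¹ := ⟨_, rfl⟩
    rw [← hMdef] at hM ⊢
    have hi := hiff g hg
    rw [← hMdef] at hi
    rcases h.inv_eq hM with e' | e' <;> rw [e'] <;>
    rcases h.comm g hg m hm with c1 | c1 <;>
      rcases h.comm g hg M hM with c2 | c2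
    all_goals first
      | (simp only [mul_neg, neg_mul, neg_inj]; rw [mul_assoc, ← c2, ← mul_assoc, ← c1, mul_assoc]; done)
      | (rw [mul_assoc, ← c2, ← mul_assoc, ← c1, mul_assoc]; done)
      | (exact absurd (hi.1 c1) fun hh => h.one_ne_neg (mul_right_cancel (b := M * g)
          (by rw [one_mul, neg_mul, one_mul, ← c2]; exact hh.symm)))
      | (exact absurd (hi.2 c2) fun hh => h.one_ne_neg (mul_right_cancel (b := m * g)
          (by rw [one_mul, neg_mul, one_mul, ← c1]; exact hh.symm)))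
      | (have c1' : m * g = -(g * m) := (by rw [c1, neg_neg])
         have c2' : M * g = -(g * M) := (by rw [c2, neg_neg])
         simp only [mul_neg, neg_mul, neg_inj]
         rw [mul_assoc, c2', mul_neg, ← mul_assoc, c1', neg_mul, neg_neg, mul_assoc]; done)
      | (have c1' : m * g = -(g * m) := (by rw [c1, neg_neg])
         have c2' : M * g = -(g * M) := (by rw [c2, neg_neg])
         rw [mul_assoc, c2', mul_neg, ← mul_assoc, c1', neg_mul, neg_neg, mul_assoc]; done)
  obtain ⟨k, hk⟩ : Odd r := (Fact.out : r.Prime).odd_of_ne_two hr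
  have h7 : Commute ((y ^ 2) ^ (k + 1)) m := (show Commute (y ^ 2) m from h5).pow_left _
  rwa [← pow_mul, show 2 * (k + 1) = r + 1 by omega, pow_succ, hyr, one_mul] at h7

/-- Elements of order three fix a non-central coset in minus type. -/
theorem three_fixed (hm : Cfsg.Geo.IsOfMinusType 2 R) {e : Fin 5 → GL ι F} (E : Frame R e) [Fact (Nat.Prime 3)]
    (hy3 : y ^ 3 = 1) (hy : ∀ x ∈ R, y * x * y⁻¹ ∈ R) : Nat.card (cy R y) ≠ Nat.card (zs R) := by
  intro hcard
  haveI := h.fin
  have him : ∀ k, ∃ l, y * e k * y⁻¹ = e l ∨ y * e k * y⁻¹ = -e l := fun k => by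
    refine Frame.involution_eq h E hm (hy _ (E.mem k)) (fun hh => ?_) ?_
    · obtain ⟨c, hc⟩ := h.scalar hh
      refine Frame.noncentral h E k fun g _ => ?_
      have hcomm : ∀ u : GL ι F, Commute (y * e k * y⁻¹) u := comm_of_scalar hc
      have e1 : e k = y⁻¹ * (y * e k * y⁻¹) * y := by simp [mul_assoc]
      rw [e1, ← (hcomm y⁻¹).eq, inv_mul_cancel_right]
      exact hcomm g
    · calc y * e k * y⁻¹ * (y * e k * y⁻¹) = y * (e k * e k) * y⁻¹ := by simp [mul_assoc]
        _ = 1 := by rw [E.sq]; simp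
  choose σ hσ using him
  have hinj : ∀ a b, e a = e b ∨ e a = -e b → a = b := fun a b hab => by
    by_contra hne
    have hanti := E.anti a b hne
    rcases hab with e' | e' <;> rw [e'] at hanti
    · rw [E.sq] at hanti; exact h.one_ne_neg hanti
    · rw [neg_mul, mul_neg, neg_neg, E.sq] at hanti; exact h.one_ne_neg hanti.symm
  have hcyc : ∀ k, σ (σ (σ k)) = k := fun k => by
    have hstep : ∀ m j, (m = e j ∨ m = -e j) → (y * m * y⁻¹ = e (σ j) ∨ y * m * y⁻¹ = -e (σ j)) := fun m j hm' => by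
      rcases hm' with rfl | rfl
      · exact hσ j
      · rw [mul_neg, neg_mul]
        rcases hσ j with e' | e' <;> rw [e']
        · exact Or.inr rfl
        · exact Or.inl (neg_neg _)
    have h3 := hstep _ _ (hstep _ _ (hσ k))
    have e3 : y * (y * (y * e k * y⁻¹) * y⁻¹) * y⁻¹ = e k := by
      calc y * (y * (y * e k * y⁻¹) * y⁻¹) * y⁻¹ = y ^ 3 * e k * (y ^ 3)⁻¹ := by
            simp only [pow_succ, pow_zero, one_mul, _root_.mul_inv_rev, mul_assoc]
        _ = e k := by rw [hy3, one_mul, inv_one, mul_one]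
    rw [e3] at h3
    exact (hinj _ _ h3).symm
  obtain ⟨j, hj⟩ : ∃ j, σ j = j := by
    have hσi : Function.Injective σ := fun a b hab => by rw [← hcyc a, ← hcyc b, hab]
    let π : Equiv.Perm (Fin 5) := Equiv.ofBijective σ (Finite.injective_iff_bijective.1 hσi)
    have hπ : π ^ 3 ^ 1 = 1 := Equiv.ext fun k => by
      rw [pow_one, pow_succ, pow_succ, pow_one]; exact hcyc k
    obtain ⟨j, hj⟩ := Equiv.Perm.exists_fixed_point_of_prime (p := 3) (by simp) hπ
    exact ⟨j, hj⟩
  have hje := hσ j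
  rw [hj] at hje
  have hfix : y * e j = e j * y := by
    refine h.fixed_of_central (r := 3) (by norm_num) hy3 (E.mem j) (hy _ (E.mem j)) fun g _ => ?_
    rcases hje with e' | e' <;> rw [e']
    · rw [mul_inv_cancel, one_mul, mul_one]
    · rw [inv_neg, mul_neg, mul_inv_cancel, neg_mul, one_mul, mul_neg, mul_one]
  haveI : Finite (cy R y) := Finite.of_injective (Subgroup.inclusion (show cy R y ≤ R from inf_le_left)) (Subgroup.inclusion_injective _)
  have heq : zs R = cy R y := Subgroup.eq_of_le_of_card_ge (h.zs_le hy) hcard.le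
  have := mem_cy.2 ⟨E.mem j, hfix⟩
  rw [← heq] at this
  exact Frame.noncentral h E j (mem_zs.1 this).2

end Ctx

end Cfsg.Lib.Linear.ExtraTwo
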