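import Mathlib
import Cfsg.Agent.Lib.Linear.IsotropicFix.UnitaryPair
import Cfsg.Agent.Lib.Linear.OrthBasic

/-!
# Conjugacy in special unitary groups of semisimple elements

The determinant is corrected at an anisotropic eigenvector or at a hyperbolic pair of eigenvectors.
-/

set_option autoImplicit false

namespace Cfsg.Lib.Linear.ExtraTwo

open Module Polynomial Cfsg.Lib.Linear.Herm Cfsg.Lib.Linear.IsoFix
open scoped Matrix

variable {F : Type*} [Field F] [Fintype F] {q : ℕ}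

/-- Conjugacy in the special unitary group with an eigenvalue of norm one. -/
theorem conj_aniso (hF : Fintype.card F = q ^ 2) {n k : ℕ} (hk : (k : F) ≠ 0) {A B : GL (Fin n) F}
    (hA : IsU hF (A : Matrix (Fin n) (Fin n) F)) (hBU : IsU hF (B : Matrix (Fin n) (Fin n) F))
    (hAk : (A : Matrix (Fin n) (Fin n) F) ^ k = 1) (hBk : (B : Matrix (Fin n) (Fin n) F) ^ k = 1)
    {lam : F} (hlq : lam ^ (q + 1) = 1) (hlk : lam ^ k = 1) (hev : (A : Matrix (Fin n) (Fin n) F).charpoly.IsRoot lam)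
    (h : (A : Matrix (Fin n) (Fin n) F).charpoly = (B : Matrix (Fin n) (Fin n) F).charpoly) :
    ∃ g ∈ Cfsg.GU n F q ⊓ Cfsg.Geo.specialLinear (Fin n) F, g⁻¹ * A * g = B := by
  classical
  obtain ⟨U, hU, hUA⟩ := isConj_u hF hk hA hBU hAk hBk h
  -- an anisotropic eigenvector
  obtain ⟨x, hx0, hx⟩ : ∃ x, x ≠ 0 ∧ (A : Matrix (Fin n) (Fin n) F) *ᵥ x = lam • x := by
    have h1 : (Matrix.scalar (Fin n) lam - (A : Matrix (Fin n) (Fin n) F)).det = 0 := by
      rw [← Matrix.eval_charpoly]; exact hev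
    obtain ⟨v, hv, hv'⟩ := Matrix.exists_mulVec_eq_zero_iff.2 h1
    refine ⟨v, hv, ?_⟩
    rw [Matrix.sub_mulVec, sub_eq_zero] at hv'
    rw [← hv', Matrix.scalar_apply]
    funext i
    simp [Matrix.mulVec_diagonal]
  have hpow : ∀ j : ℕ, ((A : Matrix (Fin n) (Fin n) F) ^ j) *ᵥ x = lam ^ j • x := fun j => by
    induction j with
    | zero => simp
    | succ j ih => rw [pow_succ, ← Matrix.mulVec_mulVec, hx, Matrix.mulVec_smul, ih, smul_smul, pow_succ']
  have hev' : ∀ (j : ℕ) y, hB hF n x (((A : Matrix (Fin n) (Fin n) F) ^ j) *ᵥ y) = lam ^ j * hB hF n x y := fun j y => by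
    have h1 := (isU_iff hF _).1 (hA.pow hF j) x y
    rw [hpow, LinearMap.map_smulₛₗ, LinearMap.smul_apply, smul_eq_mul, frob_apply] at h1
    have h2 : lam ^ j * ((lam ^ j) ^ q) = 1 := by rw [← pow_succ', ← pow_mul, mul_comm, pow_mul, hlq, one_pow]
    rw [← h1, ← mul_assoc, h2, one_mul]
  obtain ⟨w, hw⟩ : ∃ w, hB hF n x w ≠ 0 := by
    by_contra h0
    push Not at h0
    exact hx0 ((hB_nondegenerate hF n).1 x h0)
  let P : (Fin n → F) → Fin n → F := fun y =>
    ∑ j ∈ Finset.range k, (lam ^ j)⁻¹ • ((A : Matrix (Fin n) (Fin n) F) ^ j) *ᵥ y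
  have hlam0 : lam ≠ 0 := fun h0 => by rw [h0, zero_pow (Nat.add_one_ne_zero q)] at hlq; exact zero_ne_one hlq
  have hPA : ∀ y, (A : Matrix (Fin n) (Fin n) F) *ᵥ P y = lam • P y := fun y => by
    let f : ℕ → Fin n → F := fun j => (lam ^ j)⁻¹ • ((A : Matrix (Fin n) (Fin n) F) ^ j) *ᵥ y
    have h1 : (A : Matrix (Fin n) (Fin n) F) *ᵥ P y = lam • ∑ j ∈ Finset.range k, f (j + 1) := by
      rw [Matrix.mulVec_sum, Finset.smul_sum]
      refine Finset.sum_congr rfl fun j _ => ?_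
      rw [Matrix.mulVec_smul, Matrix.mulVec_mulVec, ← pow_succ', smul_smul, pow_succ' lam, mul_inv,
        mul_inv_cancel_left₀ hlam0]
    have h2 : f k = f 0 := by simp [f, hlk, hAk]
    have h3 : ∑ j ∈ Finset.range k, f (j + 1) = ∑ j ∈ Finset.range k, f j := by
      have h4 := Finset.sum_range_succ f k
      rw [Finset.sum_range_succ' f k, h2] at h4
      exact add_right_cancel h4
    rw [h1, h3]
  have hxP : hB hF n x (P w) = (k : F) * hB hF n x w := by
    simp only [P, map_sum, map_smul, smul_eq_mul, hev', ← mul_assoc, inv_mul_cancel₀ (pow_ne_zero _ hlam0), one_mul,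
      Finset.sum_const, Finset.card_range, nsmul_eq_mul]
  obtain ⟨v, hv, hvv⟩ : ∃ v, (A : Matrix (Fin n) (Fin n) F) *ᵥ v = lam • v ∧ hB hF n v v ≠ 0 := by
    by_contra h0
    push Not at h0
    obtain ⟨a, ha⟩ : ∃ a : F, a + frob hF a ≠ 0 ∨ frob hF a ≠ a := by
      by_contra h1
      push Not at h1
      exact frob_ne_id hF (RingHom.ext fun a => (h1 a).2)
    set c := hB hF n x (P w) with hc
    have hc0 : c ≠ 0 := hxP ▸ mul_ne_zero hk hw
    have hsym : hB hF n (P w) x = frob hF c := ((hB_isSymm hF n).eq x (P w)).symm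
    have key : ∀ t : F, t * c + frob hF (t * c) = 0 := fun t => by
      have h1 := h0 (x + t • P w) (by rw [Matrix.mulVec_add, Matrix.mulVec_smul, hx, hPA]; module)
      simp only [map_add, map_smul, LinearMap.add_apply, LinearMap.map_smulₛₗ, LinearMap.smul_apply, smul_eq_mul,
        h0 x hx, h0 _ (hPA w), mul_zero, add_zero, zero_add, hsym, ← hc] at h1
      rw [map_mul]
      linear_combination h1
    rcases ha with ha | ha
    · have h1 := key (a / c)
      rw [div_mul_cancel₀ _ hc0] at h1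
      exact ha h1
    · obtain ⟨b, hb⟩ : ∃ b : F, b + frob hF b ≠ 0 := by
        by_contra h1
        push Not at h1
        have h2 := h1 1
        rw [map_one] at h2
        refine ha ?_
        linear_combination h1 a - a * h2
      have h1 := key (b / c)
      rw [div_mul_cancel₀ _ hc0] at h1
      exact hb h1
  have hdU : U.det ^ (q + 1) = 1 := det_isU hF hU
  have hd0 : U.det ≠ 0 := fun h0 => by rw [h0, zero_pow (Nat.add_one_ne_zero q)] at hdU; exact zero_ne_one hdU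
  set e := hB hF n v v with he
  have hee : frob hF e = e := (hB_isSymm hF n).eq v v
  set a := (U.det)⁻¹ with ha
  have haa : frob hF a * a = 1 := by rw [frob_apply, ← pow_succ, ha, _root_.inv_pow, hdU, inv_one]
  set c := (a - 1) / e with hcdef
  let C : Matrix (Fin n) (Fin n) F := 1 + Matrix.vecMulVec v (c • fun i => frob hF (v i))
  have hC : ∀ y, C *ᵥ y = y + (c * hB hF n v y) • v := fun y => by
    rw [Matrix.add_mulVec, Matrix.one_mulVec, Matrix.vecMulVec_mulVec, smul_dotProduct, ← hB_dot, smul_eq_mul, op_smul_eq_smul]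
  have hCU : IsU hF C := (isU_iff hF C).2 fun y z => by
    have hyv : hB hF n y v = frob hF (hB hF n v y) := ((hB_isSymm hF n).eq v y).symm
    have hce : c * e = a - 1 := div_mul_cancel₀ _ hvv
    have hce' : frob hF c * e = frob hF a - 1 := by
      rw [← hee, ← map_mul, hce, map_sub, map_one]
    have hsum : frob hF c + c + frob hF c * c * e = 0 := by
      refine mul_right_cancel₀ hvv ?_
      rw [zero_mul]
      linear_combination (c * e + 1) * hce' + (frob hF a) * hce + haa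
    rw [hC, hC]
    simp only [map_add, map_smul, LinearMap.add_apply, LinearMap.map_smulₛₗ, LinearMap.smul_apply, smul_eq_mul,
      map_mul, hyv, ← he]
    linear_combination (frob hF (hB hF n v y) * hB hF n v z) * hsum
  have hCd : C.det = a := by
    show (1 + Matrix.vecMulVec v (c • fun i => frob hF (v i))).det = a
    rw [Matrix.vecMulVec_eq Unit, Matrix.det_one_add_replicateCol_mul_replicateRow, smul_dotProduct, ← hB_dot, smul_eq_mul,
      ← he, hcdef, div_mul_cancel₀ _ hvv, add_sub_cancel]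
  have hCA : C * (A : Matrix (Fin n) (Fin n) F) = (A : Matrix (Fin n) (Fin n) F) * C :=
    Cfsg.Lib.Linear.Orth.mat_ext fun y => by
      have h1 : hB hF n v ((A : Matrix (Fin n) (Fin n) F) *ᵥ y) = lam * hB hF n v y := by
        have h2 := (isU_iff hF _).1 hA v y
        rw [hv, LinearMap.map_smulₛₗ, LinearMap.smul_apply, smul_eq_mul, frob_apply] at h2
        rw [← h2, ← mul_assoc, ← pow_succ', hlq, one_mul]
      rw [← Matrix.mulVec_mulVec, ← Matrix.mulVec_mulVec, hC, hC, h1, Matrix.mulVec_add, Matrix.mulVec_smul, hv]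
      module
  let M : GL (Fin n) F := (isU_unit hF (hU.mul hF hCU)).unit
  have hMv : (M : Matrix (Fin n) (Fin n) F) = U * C := rfl
  refine ⟨M⁻¹, inv_mem ⟨(mem_GU_iff hF M).2 (hMv ▸ hU.mul hF hCU), (mem_sl_iff M).2 ?_⟩, ?_⟩
  · rw [hMv, Matrix.det_mul, hCd, ha, mul_inv_cancel₀ hd0]
  · rw [inv_inv, mul_inv_eq_iff_eq_mul]
    refine Units.ext ?_
    rw [Units.val_mul, Units.val_mul, hMv, mul_assoc, hCA, ← mul_assoc, hUA, mul_assoc]


/-- Conjugacy in the special unitary group with an eigenvalue of norm different from one. -/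
theorem conj_pair (hF : Fintype.card F = q ^ 2) {n k : ℕ} (hk : (k : F) ≠ 0) {A B : GL (Fin n) F}
    (hA : IsU hF (A : Matrix (Fin n) (Fin n) F)) (hBU : IsU hF (B : Matrix (Fin n) (Fin n) F))
    (hAk : (A : Matrix (Fin n) (Fin n) F) ^ k = 1) (hBk : (B : Matrix (Fin n) (Fin n) F) ^ k = 1)
    {lam : F} (hlq : lam ^ (q + 1) ≠ 1) (hlk : lam ^ k = 1) (hev : (A : Matrix (Fin n) (Fin n) F).charpoly.IsRoot lam)
    (h : (A : Matrix (Fin n) (Fin n) F).charpoly = (B : Matrix (Fin n) (Fin n) F).charpoly) :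
    ∃ g ∈ Cfsg.GU n F q ⊓ Cfsg.Geo.specialLinear (Fin n) F, g⁻¹ * A * g = B := by
  classical
  obtain ⟨U, hU, hUA⟩ := isConj_u hF hk hA hBU hAk hBk h
  obtain ⟨x, hx0, hx⟩ : ∃ x, x ≠ 0 ∧ (A : Matrix (Fin n) (Fin n) F) *ᵥ x = lam • x := by
    have h1 : (Matrix.scalar (Fin n) lam - (A : Matrix (Fin n) (Fin n) F)).det = 0 := by
      rw [← Matrix.eval_charpoly]; exact hev
    obtain ⟨v, hv, hv'⟩ := Matrix.exists_mulVec_eq_zero_iff.2 h1
    refine ⟨v, hv, ?_⟩
    rw [Matrix.sub_mulVec, sub_eq_zero] at hv'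
    rw [← hv', Matrix.scalar_apply]
    funext i
    simp [Matrix.mulVec_diagonal]
  have hlam0 : lam ≠ 0 := fun h0 => by
    rw [h0] at hlk
    rcases Nat.eq_zero_or_pos k with rfl | hk0
    · exact hk (by simp)
    · rw [zero_pow hk0.ne'] at hlk; exact zero_ne_one hlk
  have hf0 : frob hF lam ≠ 0 := (_root_.map_ne_zero _).2 hlam0
  obtain ⟨m, hm⟩ : ∃ m, m = (frob hF lam)⁻¹ := ⟨_, rfl⟩
  have hm0 : m ≠ 0 := hm ▸ inv_ne_zero hf0
  have hfm : frob hF m = lam⁻¹ := by rw [hm, map_inv₀, frob_frob hF]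
  have hmk : m ^ k = 1 := by rw [hm, _root_.inv_pow, ← map_pow, hlk, map_one, inv_one]
  have hev1 : ∀ y, hB hF n x ((A : Matrix (Fin n) (Fin n) F) *ᵥ y) = m * hB hF n x y := fun y => by
    have h1 := (isU_iff hF _).1 hA x y
    rw [hx, LinearMap.map_smulₛₗ, LinearMap.smul_apply, smul_eq_mul] at h1
    rw [← h1, hm, inv_mul_cancel_left₀ hf0]
  have hev' : ∀ (j : ℕ) y, hB hF n x (((A : Matrix (Fin n) (Fin n) F) ^ j) *ᵥ y) = m ^ j * hB hF n x y := fun j => by
    induction j with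
    | zero => simp
    | succ j ih => intro y; rw [pow_succ, ← Matrix.mulVec_mulVec, ih, hev1, pow_succ, mul_assoc]
  have hiso : ∀ (u : Fin n → F) (c : F), (A : Matrix (Fin n) (Fin n) F) *ᵥ u = c • u → c ^ (q + 1) ≠ 1 → hB hF n u u = 0 := by
    intro u c hu hc
    have h1 := (isU_iff hF _).1 hA u u
    rw [hu, map_smul, smul_eq_mul, LinearMap.map_smulₛₗ, LinearMap.smul_apply, smul_eq_mul, frob_apply] at h1
    have h2 : (c ^ (q + 1) - 1) * hB hF n u u = 0 := by rw [pow_succ]; linear_combination h1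
    exact (mul_eq_zero.1 h2).resolve_left (sub_ne_zero.2 hc)
  have hmq : m ^ (q + 1) ≠ 1 := fun h0 => by
    refine hlq ?_
    have h1 : lam = (frob hF m)⁻¹ := by rw [hfm, inv_inv]
    rw [h1, _root_.inv_pow, ← map_pow, h0, map_one, inv_one]
  obtain ⟨w, hw⟩ : ∃ w, hB hF n x w ≠ 0 := by
    by_contra h0
    push Not at h0
    exact hx0 ((hB_nondegenerate hF n).1 x h0)
  let P : (Fin n → F) → Fin n → F := fun y =>
    ∑ j ∈ Finset.range k, (m ^ j)⁻¹ • ((A : Matrix (Fin n) (Fin n) F) ^ j) *ᵥ y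
  have hPA : ∀ y, (A : Matrix (Fin n) (Fin n) F) *ᵥ P y = m • P y := fun y => by
    let f : ℕ → Fin n → F := fun j => (m ^ j)⁻¹ • ((A : Matrix (Fin n) (Fin n) F) ^ j) *ᵥ y
    have h1 : (A : Matrix (Fin n) (Fin n) F) *ᵥ P y = m • ∑ j ∈ Finset.range k, f (j + 1) := by
      rw [Matrix.mulVec_sum, Finset.smul_sum]
      refine Finset.sum_congr rfl fun j _ => ?_
      rw [Matrix.mulVec_smul, Matrix.mulVec_mulVec, ← pow_succ', smul_smul, pow_succ' m, mul_inv,
        mul_inv_cancel_left₀ hm0]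
    have h2 : f k = f 0 := by simp [f, hmk, hAk]
    have h3 : ∑ j ∈ Finset.range k, f (j + 1) = ∑ j ∈ Finset.range k, f j := by
      have h4 := Finset.sum_range_succ f k
      rw [Finset.sum_range_succ' f k, h2] at h4
      exact add_right_cancel h4
    rw [h1, h3]
  have hxP : hB hF n x (P w) = (k : F) * hB hF n x w := by
    simp only [P, map_sum, map_smul, smul_eq_mul, hev', ← mul_assoc, inv_mul_cancel₀ (pow_ne_zero _ hm0), one_mul,
      Finset.sum_const, Finset.card_range, nsmul_eq_mul]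
  obtain ⟨v, hv, hxv, hvx⟩ : ∃ v, (A : Matrix (Fin n) (Fin n) F) *ᵥ v = m • v ∧ hB hF n x v = 1 ∧ hB hF n v x = 1 := by
    have hc : hB hF n x (P w) ≠ 0 := hxP ▸ mul_ne_zero hk hw
    have h1 : hB hF n x ((hB hF n x (P w))⁻¹ • P w) = 1 := by rw [map_smul, smul_eq_mul, inv_mul_cancel₀ hc]
    refine ⟨(hB hF n x (P w))⁻¹ • P w, ?_, h1, ?_⟩
    · rw [Matrix.mulVec_smul, hPA, smul_comm]
    · rw [← (hB_isSymm hF n).eq x ((hB hF n x (P w))⁻¹ • P w), h1, map_one]
  have hxx := hiso x lam hx hlq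
  have hvv := hiso v m hv hmq
  have hdU : U.det ^ (q + 1) = 1 := det_isU hF hU
  have hd0 : U.det ≠ 0 := fun h0 => by rw [h0, zero_pow (Nat.add_one_ne_zero q)] at hdU; exact zero_ne_one hdU
  obtain ⟨au, hau⟩ := exists_div_frob hF (z := (U.det)⁻¹) (by rw [_root_.inv_pow, hdU, inv_one])
  obtain ⟨a, ha⟩ : ∃ a, a = (au : F) := ⟨_, rfl⟩
  obtain ⟨b, hb⟩ : ∃ b, b = frob hF ((au⁻¹ : Fˣ) : F) := ⟨_, rfl⟩
  have hab : a * b = (U.det)⁻¹ := by rw [ha, hb]; exact hau
  have hfab : frob hF a * b = 1 := by rw [ha, hb, ← map_mul, ← Units.val_mul, mul_inv_cancel, Units.val_one, map_one]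
  have hfba : frob hF b * a = 1 := by
    rw [← frob_frob hF a, ← map_mul, mul_comm, hfab, map_one]
  let C₁ : Matrix (Fin n) (Fin n) F := 1 + Matrix.vecMulVec x ((a - 1) • fun i => frob hF (v i))
  let C₂ : Matrix (Fin n) (Fin n) F := 1 + Matrix.vecMulVec v ((b - 1) • fun i => frob hF (x i))
  have hC₁ : ∀ y, C₁ *ᵥ y = y + ((a - 1) * hB hF n v y) • x := fun y => by
    rw [Matrix.add_mulVec, Matrix.one_mulVec, Matrix.vecMulVec_mulVec, smul_dotProduct, ← hB_dot, smul_eq_mul, op_smul_eq_smul]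
  have hC₂ : ∀ y, C₂ *ᵥ y = y + ((b - 1) * hB hF n x y) • v := fun y => by
    rw [Matrix.add_mulVec, Matrix.one_mulVec, Matrix.vecMulVec_mulVec, smul_dotProduct, ← hB_dot, smul_eq_mul, op_smul_eq_smul]
  have hC : ∀ y, (C₁ * C₂) *ᵥ y = y + ((a - 1) * hB hF n v y) • x + ((b - 1) * hB hF n x y) • v := fun y => by
    rw [← Matrix.mulVec_mulVec, hC₂, hC₁, map_add, map_smul, hvv, smul_zero, add_zero]
    abel
  have hCU : IsU hF (C₁ * C₂) := (isU_iff hF _).2 fun y z => by
    have hyv : hB hF n y v = frob hF (hB hF n v y) := ((hB_isSymm hF n).eq v y).symm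
    have hyx : hB hF n y x = frob hF (hB hF n x y) := ((hB_isSymm hF n).eq x y).symm
    rw [hC, hC]
    simp only [map_add, map_smul, LinearMap.add_apply, LinearMap.map_smulₛₗ, LinearMap.smul_apply, smul_eq_mul,
      map_mul, map_sub, map_one, hyv, hyx, hxx, hvv, hxv, hvx]
    linear_combination (frob hF (hB hF n v y) * hB hF n x z) * hfab + (frob hF (hB hF n x y) * hB hF n v z) * hfba
  have hCd : (C₁ * C₂).det = a * b := by
    have h1 : C₁.det = a := by
      show (1 + Matrix.vecMulVec x ((a - 1) • fun i => frob hF (v i))).det = a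
      rw [Matrix.vecMulVec_eq Unit, Matrix.det_one_add_replicateCol_mul_replicateRow, smul_dotProduct, ← hB_dot, smul_eq_mul,
        hvx, mul_one, add_sub_cancel]
    have h2 : C₂.det = b := by
      show (1 + Matrix.vecMulVec v ((b - 1) • fun i => frob hF (x i))).det = b
      rw [Matrix.vecMulVec_eq Unit, Matrix.det_one_add_replicateCol_mul_replicateRow, smul_dotProduct, ← hB_dot, smul_eq_mul,
        hxv, mul_one, add_sub_cancel]
    rw [Matrix.det_mul, h1, h2]
  have hCA : C₁ * C₂ * (A : Matrix (Fin n) (Fin n) F) = (A : Matrix (Fin n) (Fin n) F) * (C₁ * C₂) :=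
    Cfsg.Lib.Linear.Orth.mat_ext fun y => by
      have h1 : hB hF n v ((A : Matrix (Fin n) (Fin n) F) *ᵥ y) = lam * hB hF n v y := by
        have h2 := (isU_iff hF _).1 hA v y
        rw [hv, LinearMap.map_smulₛₗ, LinearMap.smul_apply, smul_eq_mul, hfm] at h2
        rw [← h2, mul_inv_cancel_left₀ hlam0]
      rw [← Matrix.mulVec_mulVec y (C₁ * C₂) (A : Matrix (Fin n) (Fin n) F), ← Matrix.mulVec_mulVec y (A : Matrix (Fin n) (Fin n) F) (C₁ * C₂), hC, hC, h1, hev1,
        Matrix.mulVec_add, Matrix.mulVec_add, Matrix.mulVec_smul, Matrix.mulVec_smul, hv, hx]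
      module
  let M : GL (Fin n) F := (isU_unit hF (hU.mul hF hCU)).unit
  have hMv : (M : Matrix (Fin n) (Fin n) F) = U * (C₁ * C₂) := rfl
  refine ⟨M⁻¹, inv_mem ⟨(mem_GU_iff hF M).2 (hMv ▸ hU.mul hF hCU), (mem_sl_iff M).2 ?_⟩, ?_⟩
  · rw [hMv, Matrix.det_mul, hCd, hab, mul_inv_cancel₀ hd0]
  · rw [inv_inv, mul_inv_eq_iff_eq_mul]
    refine Units.ext ?_
    rw [Units.val_mul, Units.val_mul, hMv, mul_assoc, hCA, ← mul_assoc, hUA, mul_assoc]

end Cfsg.Lib.Linear.ExtraTwo
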